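import Mathlib
import Cfsg.Agent.Helper15.SpCard

set_option autoImplicit false
set_option linter.unusedSectionVars false
set_option linter.unusedVariables false

namespace Cfsg.Agent.Helper7

theorem exists_odd_prime_dvd_pow_add_one (q n : ℕ) (hq : 2 ≤ q) (hn : 2 ≤ n) :
    ∃ r : ℕ, r.Prime ∧ r ≠ 2 ∧ r ∣ q ^ n + 1 := by
  have key : ∀ M : ℕ, Odd M → 1 < M → M ∣ q ^ n + 1 →
      ∃ r : ℕ, r.Prime ∧ r ≠ 2 ∧ r ∣ q ^ n + 1 := by
    intro M hM h1 hd
    refine ⟨M.minFac, Nat.minFac_prime (by omega), ?_, (Nat.minFac_dvd M).trans hd⟩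
    intro h2
    have h3 := Nat.minFac_dvd M
    rw [h2] at h3
    exact (Nat.not_even_iff_odd.mpr hM) (even_iff_two_dvd.mpr h3)
  have hqn : q < q ^ n := by
    calc q = q ^ 1 := (pow_one q).symm
      _ < q ^ n := Nat.pow_lt_pow_right (by omega) (by omega)
  rcases Nat.even_or_odd q with hqe | hqo
  · exact key (q ^ n + 1) (Even.add_one (hqe.pow_of_ne_zero (by omega))) (by omega) dvd_rfl
  · rcases Nat.even_or_odd n with hne | hno
    · obtain ⟨k, rfl⟩ := hne
      obtain ⟨c, hc⟩ : Odd (q ^ k) := hqo.pow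
      have e : q ^ (k + k) + 1 = 2 * (2 * c * c + 2 * c + 1) := by
        rw [pow_add, hc]
        ring
      have hk : 1 ≤ k := by omega
      have hqk : 2 ≤ q ^ k := by
        calc 2 ≤ q := hq
          _ = q ^ 1 := (pow_one q).symm
          _ ≤ q ^ k := Nat.pow_le_pow_right (by omega) hk
      have hc1 : 1 ≤ c := by omega
      refine key (2 * c * c + 2 * c + 1) ⟨c * c + c, by ring⟩ ?_ ⟨2, by rw [e]; ring⟩
      nlinarith
    · obtain ⟨S, hS⟩ : q + 1 ∣ q ^ n + 1 := by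
        simpa using Odd.nat_add_dvd_pow_add_pow q 1 hno
      have hS1 : 1 < S := by
        by_contra h
        rw [not_lt] at h
        have h' : (q + 1) * S ≤ (q + 1) * 1 := Nat.mul_le_mul_left _ h
        omega
      refine key S ?_ hS1 ⟨q + 1, by rw [hS]; ring⟩
      by_contra hSe
      rw [Nat.not_odd_iff_even] at hSe
      obtain ⟨c, hc⟩ := hSe
      obtain ⟨a, ha⟩ := hno
      obtain ⟨b, hb⟩ := hqo
      have h1 : q ^ 2 ≡ 1 [MOD 2 * (q + 1)] := by
        refine ((Nat.modEq_iff_dvd' (Nat.one_le_pow _ _ (by omega))).mpr ⟨b, ?_⟩).symm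
        subst hb
        have h' : (2 * b + 1) ^ 2 = 2 * (2 * b + 1 + 1) * b + 1 := by ring
        omega
      have h2 : q ^ n ≡ q [MOD 2 * (q + 1)] := by
        have h' := (h1.pow a).mul_right q
        rw [one_pow, one_mul, ← pow_mul, ← pow_succ, ← ha] at h'
        exact h'
      have h3 : q ^ n + 1 ≡ q + 1 [MOD 2 * (q + 1)] := h2.add_right 1
      have h4 : q ^ n + 1 ≡ 0 [MOD 2 * (q + 1)] :=
        (Nat.modEq_zero_iff_dvd).mpr ⟨c, by rw [hS, hc]; ring⟩
      have h5 : 2 * (q + 1) ∣ q + 1 := (Nat.modEq_zero_iff_dvd).mp (h3.symm.trans h4)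
      have h6 := Nat.le_of_dvd (by omega) h5
      omega

theorem gl_val_sum (q d r : ℕ) [hr : Fact r.Prime] (hq : 2 ≤ q) (hrq : ¬ r ∣ q) :
    (∏ i : Fin d, (q ^ d - q ^ (i : ℕ))).factorization r =
      ∑ j ∈ Finset.range d, (q ^ (j + 1) - 1).factorization r := by
  have hterm : ∀ i : Fin d, q ^ d - q ^ (i : ℕ) ≠ 0 := by
    intro i
    have : q ^ (i : ℕ) < q ^ d := Nat.pow_lt_pow_right (by omega) i.2
    omega
  rw [Nat.factorization_prod (fun i _ => hterm i), Finsupp.finsetSum_apply]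
  have hfi : ∀ i : Fin d, (q ^ d - q ^ (i : ℕ)).factorization r =
      (q ^ (d - 1 - (i : ℕ) + 1) - 1).factorization r := by
    intro i
    have hi := i.2
    have e0 : ∀ iv : ℕ, iv < d → q ^ d - q ^ iv = q ^ iv * (q ^ (d - 1 - iv + 1) - 1) := by
      intro iv hiv
      have hn : d = iv + (d - 1 - iv + 1) := by omega
      rw [Nat.mul_sub, mul_one, ← pow_add, ← hn]
    have e := e0 (i : ℕ) hi
    have hk : q ^ (d - 1 - (i : ℕ) + 1) - 1 ≠ 0 := by
      have : 2 ≤ q ^ (d - 1 - (i : ℕ) + 1) := by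
        calc 2 ≤ q := hq
          _ = q ^ 1 := (pow_one _).symm
          _ ≤ q ^ (d - 1 - (i : ℕ) + 1) := Nat.pow_le_pow_right (by omega) (by omega)
      omega
    rw [e, Nat.factorization_mul (pow_ne_zero _ (by omega)) hk, Finsupp.add_apply,
      Nat.factorization_pow, Finsupp.smul_apply, Nat.factorization_eq_zero_of_not_dvd hrq,
      smul_zero, zero_add]
  simp only [hfi]
  rw [Fin.sum_univ_eq_sum_range (fun i => (q ^ (d - 1 - i + 1) - 1).factorization r) d,
    Finset.sum_range_reflect (fun i => (q ^ (i + 1) - 1).factorization r) d]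

theorem sp_val_sum (q n r : ℕ) [hr : Fact r.Prime] (hq : 2 ≤ q) (hrq : ¬ r ∣ q) :
    (q ^ (n ^ 2) * ∏ i : Fin n, (q ^ (2 * ((i : ℕ) + 1)) - 1)).factorization r =
      ∑ i ∈ Finset.range n, (q ^ (2 * (i + 1)) - 1).factorization r := by
  have hterm : ∀ i : Fin n, q ^ (2 * ((i : ℕ) + 1)) - 1 ≠ 0 := by
    intro i
    have : 2 ≤ q ^ (2 * ((i : ℕ) + 1)) := by
      calc 2 ≤ q := hq
        _ = q ^ 1 := (pow_one _).symm
        _ ≤ q ^ (2 * ((i : ℕ) + 1)) := Nat.pow_le_pow_right (by omega) (by omega)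
    omega
  have hprod : (∏ i : Fin n, (q ^ (2 * ((i : ℕ) + 1)) - 1)) ≠ 0 :=
    Finset.prod_ne_zero_iff.mpr (fun i _ => hterm i)
  rw [Nat.factorization_mul (pow_ne_zero _ (by omega)) hprod, Finsupp.add_apply,
    Nat.factorization_pow, Finsupp.smul_apply, Nat.factorization_eq_zero_of_not_dvd hrq,
    smul_zero, zero_add, Nat.factorization_prod (fun i _ => hterm i), Finsupp.finsetSum_apply]
  exact Fin.sum_univ_eq_sum_range (fun i => (q ^ (2 * (i + 1)) - 1).factorization r) n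

theorem sp_gl_val_lt (q n d r : ℕ) [hr : Fact r.Prime] (hq : 2 ≤ q) (hr2 : r ≠ 2)
    (hn : 1 ≤ n) (hrd : r ∣ q ^ n + 1) (hd : d < 2 * n) :
    (∏ i : Fin d, (q ^ d - q ^ (i : ℕ))).factorization r <
      (q ^ (n ^ 2) * ∏ i : Fin n, (q ^ (2 * ((i : ℕ) + 1)) - 1)).factorization r := by
  have hrq : ¬ r ∣ q := by
    intro h
    have h1 : r ∣ q ^ n := dvd_pow h (by omega)
    have h2 : r ∣ 1 := (Nat.dvd_add_right h1).mp hrd
    exact hr.out.one_lt.ne' (Nat.dvd_one.mp h2)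
  rw [gl_val_sum q d r hq hrq, sp_val_sum q n r hq hrq]
  have hx : ((q : ℕ) : ZMod r) ^ n = -1 := by
    have h := (ZMod.natCast_eq_zero_iff (q ^ n + 1) r).mpr hrd
    rw [Nat.cast_add, Nat.cast_pow, Nat.cast_one] at h
    exact eq_neg_of_add_eq_zero_left h
  have hodd : ∀ j, Odd j → (q ^ j - 1).factorization r = 0 := by
    intro j hj
    apply Nat.factorization_eq_zero_of_not_dvd
    intro hdvd
    have h1 : ((q : ℕ) : ZMod r) ^ j = 1 := by
      have h := (ZMod.natCast_eq_zero_iff (q ^ j - 1) r).mpr hdvd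
      rw [Nat.cast_sub (Nat.one_le_pow _ _ (by omega)), Nat.cast_pow, Nat.cast_one,
        sub_eq_zero] at h
      exact h
    have h2 : orderOf ((q : ℕ) : ZMod r) ∣ j := orderOf_dvd_of_pow_eq_one h1
    have h3 : orderOf ((q : ℕ) : ZMod r) ∣ 2 * n := by
      apply orderOf_dvd_of_pow_eq_one
      rw [pow_mul', hx]
      norm_num
    have h4 : Odd (orderOf ((q : ℕ) : ZMod r)) := Odd.of_dvd_nat hj h2
    have h5 : orderOf ((q : ℕ) : ZMod r) ∣ n :=
      (Nat.coprime_two_left.mpr h4).symm.dvd_of_dvd_mul_left h3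
    have h6 : ((q : ℕ) : ZMod r) ^ n = 1 := orderOf_dvd_iff_pow_eq_one.mp h5
    rw [hx] at h6
    have h7 : ((2 : ℕ) : ZMod r) = 0 := by
      push_cast
      linear_combination (-1 : ZMod r) * h6
    have h8 : r ∣ 2 := (ZMod.natCast_eq_zero_iff 2 r).mp h7
    have h9 := Nat.le_of_dvd (by norm_num) h8
    have h10 := hr.out.two_le
    omega
  have hA : ∀ m : ℕ, ∑ j ∈ Finset.range (2 * m), (q ^ (j + 1) - 1).factorization r =
      ∑ i ∈ Finset.range m, (q ^ (2 * (i + 1)) - 1).factorization r := by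
    intro m
    induction m with
    | zero => simp
    | succ m ih =>
      have e : 2 * (m + 1) = 2 * m + 1 + 1 := by ring
      rw [e, Finset.sum_range_succ, Finset.sum_range_succ, ih, Finset.sum_range_succ,
        hodd (2 * m + 1) ⟨m, rfl⟩, add_zero, e]
  obtain ⟨m, rfl⟩ : ∃ m, n = m + 1 := ⟨n - 1, by omega⟩
  have hfac : q ^ (2 * (m + 1)) - 1 = (q ^ (m + 1) + 1) * (q ^ (m + 1) - 1) := by
    obtain ⟨y, hy⟩ : ∃ y, q ^ (m + 1) = y + 1 :=
      ⟨q ^ (m + 1) - 1, by have := Nat.one_le_pow (m + 1) q (by omega); omega⟩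
    rw [pow_mul', hy, Nat.add_sub_cancel]
    have h' : (y + 1) ^ 2 = (y + 1 + 1) * y + 1 := by ring
    omega
  have hne : q ^ (2 * (m + 1)) - 1 ≠ 0 := by
    have : 2 ≤ q ^ (2 * (m + 1)) := by
      calc 2 ≤ q := hq
        _ = q ^ 1 := (pow_one _).symm
        _ ≤ q ^ (2 * (m + 1)) := Nat.pow_le_pow_right (by omega) (by omega)
    omega
  have hpos : 0 < (q ^ (2 * (m + 1)) - 1).factorization r :=
    Nat.Prime.factorization_pos_of_dvd hr.out hne (by rw [hfac]; exact Dvd.dvd.mul_right hrd _)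
  have h1 : ∑ j ∈ Finset.range d, (q ^ (j + 1) - 1).factorization r ≤
      ∑ j ∈ Finset.range (2 * m + 1), (q ^ (j + 1) - 1).factorization r :=
    Finset.sum_le_sum_of_subset (Finset.range_mono (by omega))
  rw [Finset.sum_range_succ, hA m, hodd (2 * m + 1) ⟨m, rfl⟩, add_zero] at h1
  rw [Finset.sum_range_succ]
  omega

theorem sp_faithful_degree {F : Type*} [Field F] [Fintype F] (n : ℕ) {d : ℕ}
    (ρ : ↥(Matrix.symplecticGroup (Fin n) F) →* GL (Fin d) F) (hρ : Function.Injective ρ) :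
    2 * n ≤ d := by
  classical
  by_contra hcon
  rw [not_le] at hcon
  have hq2 : 2 ≤ Fintype.card F := Fintype.one_lt_card
  have hdvd : Nat.card ↥(Matrix.symplecticGroup (Fin n) F) ∣ Nat.card (GL (Fin d) F) :=
    Subgroup.card_dvd_of_injective ρ hρ
  rw [Cfsg.Agent.Helper15.card_symplecticGroup (F := F) rfl n, Matrix.card_GL_field] at hdvd
  have hGLne : (∏ i : Fin d, (Fintype.card F ^ d - Fintype.card F ^ (i : ℕ))) ≠ 0 := by
    apply Finset.prod_ne_zero_iff.mpr
    intro i _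
    have : Fintype.card F ^ (i : ℕ) < Fintype.card F ^ d :=
      Nat.pow_lt_pow_right (by omega) i.2
    omega
  have hSpne : (Fintype.card F ^ (n ^ 2) *
      ∏ i : Fin n, (Fintype.card F ^ (2 * ((i : ℕ) + 1)) - 1)) ≠ 0 :=
    (Nat.pos_of_dvd_of_pos hdvd (Nat.pos_of_ne_zero hGLne)).ne'
  by_cases hn2 : 2 ≤ n
  · obtain ⟨r, hr, hr2, hrd⟩ := exists_odd_prime_dvd_pow_add_one (Fintype.card F) n hq2 hn2
    have : Fact r.Prime := ⟨hr⟩
    have hlt := sp_gl_val_lt (Fintype.card F) n d r hq2 hr2 (by omega) hrd hcon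
    have hle := (Nat.factorization_le_iff_dvd hSpne hGLne).mpr hdvd r
    omega
  · have hn1 : n = 1 := by omega
    subst hn1
    have hle := Nat.le_of_dvd (Nat.pos_of_ne_zero hGLne) hdvd
    have e1 : Fintype.card F ^ (1 ^ 2) *
        ∏ i : Fin 1, (Fintype.card F ^ (2 * ((i : ℕ) + 1)) - 1) =
        Fintype.card F * (Fintype.card F ^ 2 - 1) := by simp
    rw [e1] at hle
    have hX : 3 ≤ Fintype.card F ^ 2 - 1 := by
      have : 4 ≤ Fintype.card F ^ 2 := by nlinarith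
      omega
    have h3 : Fintype.card F * 3 ≤ Fintype.card F * (Fintype.card F ^ 2 - 1) :=
      Nat.mul_le_mul_left _ hX
    have hd : d = 0 ∨ d = 1 := by omega
    rcases hd with rfl | rfl
    · simp at hle
      omega
    · simp at hle
      omega

end Cfsg.Agent.Helper7
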