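import Cfsg.Agent.Helper7.ChevCen
import Cfsg.Agent.Helper7.ChkCox

set_option autoImplicit false
set_option maxRecDepth 100000
open Cfsg

namespace Cfsg.Agent.Helper7

open Cfsg.Lie

theorem cenOK_G2 : cenOK chevG2 = true := by decide +kernel
theorem cenOK_B2 : cenOK chevB2 = true := by decide +kernel
theorem cenOK_D4 : cenOK chevD4 = true := by decide +kernel
theorem cenOK_F4 : cenOK chevF4 = true := by decide +kernel
theorem cenOK_E6 : cenOK chevE6 = true := by decide +kernel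
theorem cenOK_E7 : cenOK chevE7 = true := by decide +kernel
theorem cenOK_E8 : cenOK chevE8 = true := by decide +kernel

theorem connOK_G2 : connOK chevG2 = true := by decide +kernel
theorem connOK_B2 : connOK chevB2 = true := by decide +kernel
theorem connOK_D4 : connOK chevD4 = true := by decide +kernel
theorem connOK_F4 : connOK chevF4 = true := by decide +kernel
theorem connOK_E6 : connOK chevE6 = true := by decide +kernel
theorem connOK_E7 : connOK chevE7 = true := by decide +kernel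
theorem connOK_E8 : connOK chevE8 = true := by decide +kernel

theorem negWOK_B2 : negWOK chevB2 2 = true := by decide +kernel
theorem negWOK_G2 : negWOK chevG2 3 = true := by decide +kernel
theorem negWOK_D4 : negWOK chevD4 3 = true := by decide +kernel
theorem negWOK_F4 : negWOK chevF4 6 = true := by decide +kernel
theorem negWOK_E7 : negWOK chevE7 9 = true := by decide +kernel
theorem negWOK_E8 : negWOK chevE8 15 = true := by decide +kernel

def famE6 : List (List ℕ) :=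
  [[56, 57, 58, 59, 60, 61, 62, 63, 64, 65, 66, 67, 68, 69, 70, 71],
   [15, 42, 43, 44, 45, 50, 51, 52, 53, 54, 55, 67, 68, 69, 70, 71],
   [14, 29, 39, 40, 41, 47, 48, 49, 53, 54, 55, 64, 65, 66, 70, 71],
   [13, 28, 32, 37, 38, 46, 48, 49, 51, 52, 55, 62, 63, 66, 69, 71],
   [10, 21, 24, 25, 37, 38, 40, 41, 44, 45, 55, 59, 60, 66, 69, 70],
   [12, 27, 31, 34, 36, 46, 47, 49, 50, 52, 54, 61, 63, 65, 68, 71],
   [9, 20, 23, 25, 34, 36, 39, 41, 43, 45, 54, 58, 60, 65, 68, 70],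
   [11, 26, 30, 33, 35, 46, 47, 48, 50, 51, 53, 61, 62, 64, 67, 71],
   [7, 18, 23, 24, 31, 32, 36, 38, 42, 45, 52, 57, 60, 63, 68, 69],
   [8, 19, 22, 25, 33, 35, 39, 40, 43, 44, 53, 58, 59, 64, 67, 70],
   [4, 18, 20, 21, 27, 28, 29, 36, 38, 41, 49, 56, 60, 63, 65, 66],
   [6, 17, 22, 24, 30, 32, 35, 37, 42, 44, 51, 57, 59, 62, 67, 69],
   [4, 7, 9, 10, 12, 13, 14, 15, 36, 38, 41, 45, 49, 52, 54, 55],
   [3, 17, 19, 21, 26, 28, 29, 35, 37, 40, 48, 56, 59, 62, 64, 66],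
   [5, 16, 22, 23, 30, 31, 33, 34, 42, 43, 50, 57, 58, 61, 67, 68],
   [3, 6, 8, 10, 11, 13, 14, 15, 35, 37, 40, 44, 48, 51, 53, 55],
   [2, 16, 19, 20, 26, 27, 29, 33, 34, 39, 47, 56, 58, 61, 64, 65],
   [2, 5, 8, 9, 11, 12, 14, 15, 33, 34, 39, 43, 47, 50, 53, 54],
   [1, 16, 17, 18, 26, 27, 28, 30, 31, 32, 46, 56, 57, 61, 62, 63],
   [1, 5, 6, 7, 11, 12, 13, 15, 30, 31, 32, 42, 46, 50, 51, 52],
   [0, 16, 17, 18, 19, 20, 21, 22, 23, 24, 25, 56, 57, 58, 59, 60],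
   [0, 5, 6, 7, 8, 9, 10, 15, 22, 23, 24, 25, 42, 43, 44, 45],
   [1, 2, 3, 4, 11, 12, 13, 14, 26, 27, 28, 29, 46, 47, 48, 49],
   [0, 2, 3, 4, 8, 9, 10, 14, 19, 20, 21, 25, 29, 39, 40, 41],
   [0, 1, 3, 4, 6, 7, 10, 13, 17, 18, 21, 24, 28, 32, 37, 38],
   [0, 1, 2, 4, 5, 7, 9, 12, 16, 18, 20, 23, 27, 31, 34, 36],
   [0, 1, 2, 3, 5, 6, 8, 11, 16, 17, 19, 22, 26, 30, 33, 35]]

def nxtE6 : List (List ℕ) :=
  [[1, 0, 0, 0, 0, 0], [0, 1, 2, 1, 1, 1], [2, 2, 1, 3, 2, 2], [3, 4, 3, 2, 5, 3],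
   [4, 3, 4, 4, 6, 4], [5, 6, 5, 5, 3, 7], [6, 5, 6, 8, 4, 9], [7, 9, 7, 7, 7, 5],
   [8, 8, 10, 6, 8, 11], [9, 7, 9, 11, 9, 6], [12, 10, 8, 10, 10, 13], [11, 11, 13, 9, 14, 8],
   [10, 12, 12, 12, 12, 15], [15, 13, 11, 13, 16, 10], [14, 14, 16, 14, 11, 14],
   [13, 15, 15, 15, 17, 12], [17, 16, 14, 18, 13, 16], [16, 17, 17, 19, 15, 17],
   [19, 20, 18, 16, 18, 18], [18, 21, 22, 17, 19, 19], [21, 18, 20, 20, 20, 20],
   [20, 19, 23, 21, 21, 21], [22, 23, 19, 22, 22, 22], [23, 22, 21, 24, 23, 23],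
   [24, 24, 24, 23, 25, 24], [25, 25, 25, 25, 24, 26], [26, 26, 26, 26, 26, 25]]

theorem famOK_E6 : famOK chevE6 famE6 nxtE6 = true := by decide +kernel

theorem cox_center_all (c : (Σ n : ℕ, CoxeterMatrix (Fin n)) × ℕ)
    (hc : c ∈ [(⟨2, CoxeterMatrix.B 2⟩, 2), (⟨2, CoxeterMatrix.G₂⟩, 2), (⟨4, coxeterD4⟩, 2),
      (⟨4, CoxeterMatrix.F₄⟩, 2), (⟨6, CoxeterMatrix.E₆⟩, 1), (⟨7, CoxeterMatrix.E₇⟩, 2),
      (⟨8, CoxeterMatrix.E₈⟩, 2)]) :
    Nat.card (Subgroup.center c.1.2.Group) = c.2 ∧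
      Subgroup.center c.1.2.Group ≤
        Subgroup.zpowers ((List.finRange c.1.1).map c.1.2.simple).prod := by
  simp only [List.mem_cons, List.not_mem_nil, or_false] at hc
  rcases hc with rfl | rfl | rfl | rfl | rfl | rfl | rfl
  · exact cox_two_wrap (uok_of_mem (by simp)) (cf_of_mem (by simp)) unitAllOK_B2 cenOK_B2
      connOK_B2 (by decide) (CoxeterMatrix.B 2) mB2 coxOK_B2 mat_B2 2 negWOK_B2 (by decide)
  · exact cox_two_wrap (uok_of_mem (by simp)) (cf_of_mem (by simp)) unitAllOK_G2 cenOK_G2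
      connOK_G2 (by decide) CoxeterMatrix.G₂ mG2 coxOK_G2 mat_G2 3 negWOK_G2 (by decide)
  · exact cox_two_wrap (uok_of_mem (by simp)) (cf_of_mem (by simp)) unitAllOK_D4 cenOK_D4
      connOK_D4 (by decide) coxeterD4 mD4 coxOK_D4 mat_D4 3 negWOK_D4 (by decide)
  · exact cox_two_wrap (uok_of_mem (by simp)) (cf_of_mem (by simp)) unitAllOK_F4 cenOK_F4
      connOK_F4 (by decide) CoxeterMatrix.F₄ mF4 coxOK_F4 mat_F4 6 negWOK_F4 (by decide)
  · exact cox_one_wrap (uok_of_mem (by simp)) (cf_of_mem (by simp)) unitAllOK_E6 cenOK_E6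
      connOK_E6 (by decide) CoxeterMatrix.E₆ mE6 coxOK_E6 mat_E6 famE6 nxtE6 famOK_E6
  · exact cox_two_wrap (uok_of_mem (by simp)) (cf_of_mem (by simp)) unitAllOK_E7 cenOK_E7
      connOK_E7 (by decide) CoxeterMatrix.E₇ mE7 coxOK_E7 mat_E7 9 negWOK_E7 (by decide)
  · exact cox_two_wrap (uok_of_mem (by simp)) (cf_of_mem (by simp)) unitAllOK_E8 cenOK_E8
      connOK_E8 (by decide) CoxeterMatrix.E₈ mE8 coxOK_E8 mat_E8 15 negWOK_E8 (by decide)

end Cfsg.Agent.Helper7
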