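import Cfsg.Agent.Helper7.ChevOrder
import Cfsg.Agent.Helper7.ChkLevi

set_option autoImplicit false
set_option maxHeartbeats 4000000
set_option maxRecDepth 100000
open Cfsg

namespace Cfsg.Agent.Helper7

open Cfsg.Lie

def levsE6 : List Lev := [
  ⟨[0, 2, 3, 4, 5], 71, [36, 37, 38, 39, 40, 41, 42, 43, 44, 45, 56, 57, 58, 59, 60],
    [([], [72, 1, 74, 75, 76, 77]),
      ([1], [72, 0, 74, 2, 76, 77]),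
      ([3, 1], [72, 75, 3, 1, 4, 77]),
      ([2, 3, 1], [5, 75, 2, 74, 6, 77]),
      ([4, 3, 1], [72, 75, 6, 76, 2, 7]),
      ([0, 2, 3, 1], [3, 75, 72, 74, 8, 77]),
      ([4, 2, 3, 1], [8, 75, 4, 9, 3, 10]),
      ([5, 4, 3, 1], [72, 75, 10, 76, 77, 4]),
      ([4, 0, 2, 3, 1], [6, 75, 72, 11, 5, 12]),
      ([3, 4, 2, 3, 1], [11, 13, 76, 6, 74, 14]),
      ([5, 4, 2, 3, 1], [12, 75, 7, 14, 77, 6]),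
      ([3, 4, 0, 2, 3, 1], [9, 15, 16, 8, 74, 17]),
      ([5, 4, 0, 2, 3, 1], [10, 75, 72, 17, 77, 8]),
      ([1, 3, 4, 2, 3, 1], [15, 9, 76, 75, 74, 18]),
      ([5, 3, 4, 2, 3, 1], [17, 18, 76, 10, 19, 9]),
      ([1, 3, 4, 0, 2, 3, 1], [13, 11, 20, 75, 74, 21]),
      ([2, 3, 4, 0, 2, 3, 1], [76, 20, 11, 72, 74, 22]),
      ([5, 3, 4, 0, 2, 3, 1], [14, 21, 22, 12, 23, 11]),
      ([5, 1, 3, 4, 2, 3, 1], [21, 14, 76, 75, 24, 13]),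
      ([4, 5, 3, 4, 2, 3, 1], [23, 24, 76, 77, 14, 74]),
      ([2, 1, 3, 4, 0, 2, 3, 1], [76, 16, 15, 25, 74, 26]),
      ([5, 1, 3, 4, 0, 2, 3, 1], [18, 17, 26, 75, 27, 15]),
      ([5, 2, 3, 4, 0, 2, 3, 1], [76, 26, 17, 72, 28, 16]),
      ([4, 5, 3, 4, 0, 2, 3, 1], [19, 27, 28, 77, 17, 74]),
      ([4, 5, 1, 3, 4, 2, 3, 1], [27, 19, 76, 29, 18, 74]),
      ([3, 2, 1, 3, 4, 0, 2, 3, 1], [76, 72, 75, 20, 30, 31]),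
      ([5, 2, 1, 3, 4, 0, 2, 3, 1], [76, 22, 21, 31, 32, 20]),
      ([4, 5, 1, 3, 4, 0, 2, 3, 1], [24, 23, 32, 33, 21, 74]),
      ([4, 5, 2, 3, 4, 0, 2, 3, 1], [76, 32, 23, 34, 22, 74]),
      ([3, 4, 5, 1, 3, 4, 2, 3, 1], [33, 77, 35, 24, 75, 74]),
      ([4, 3, 2, 1, 3, 4, 0, 2, 3, 1], [76, 72, 75, 74, 25, 36]),
      ([5, 3, 2, 1, 3, 4, 0, 2, 3, 1], [76, 72, 75, 26, 37, 25]),
      ([4, 5, 2, 1, 3, 4, 0, 2, 3, 1], [76, 28, 27, 38, 26, 74]),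
      ([3, 4, 5, 1, 3, 4, 0, 2, 3, 1], [29, 77, 39, 27, 75, 74]),
      ([3, 4, 5, 2, 3, 4, 0, 2, 3, 1], [76, 40, 77, 28, 72, 74]),
      ([2, 3, 4, 5, 1, 3, 4, 2, 3, 1], [41, 77, 29, 76, 75, 74]),
      ([5, 4, 3, 2, 1, 3, 4, 0, 2, 3, 1], [76, 72, 75, 74, 42, 30]),
      ([4, 5, 3, 2, 1, 3, 4, 0, 2, 3, 1], [76, 72, 75, 43, 31, 42]),
      ([3, 4, 5, 2, 1, 3, 4, 0, 2, 3, 1], [76, 44, 45, 32, 43, 74]),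
      ([2, 3, 4, 5, 1, 3, 4, 0, 2, 3, 1], [46, 77, 33, 45, 75, 74]),
      ([1, 3, 4, 5, 2, 3, 4, 0, 2, 3, 1], [76, 34, 77, 44, 72, 74]),
      ([0, 2, 3, 4, 5, 1, 3, 4, 2, 3, 1], [35, 77, 46, 76, 75, 74]),
      ([4, 5, 4, 3, 2, 1, 3, 4, 0, 2, 3, 1], [76, 72, 75, 47, 36, 37]),
      ([3, 4, 5, 3, 2, 1, 3, 4, 0, 2, 3, 1], [76, 48, 49, 37, 38, 47]),
      ([1, 3, 4, 5, 2, 1, 3, 4, 0, 2, 3, 1], [76, 38, 50, 40, 48, 74]),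
      ([2, 3, 4, 5, 2, 1, 3, 4, 0, 2, 3, 1], [51, 50, 38, 39, 49, 74]),
      ([0, 2, 3, 4, 5, 1, 3, 4, 0, 2, 3, 1], [39, 77, 41, 51, 75, 74]),
      ([3, 4, 5, 4, 3, 2, 1, 3, 4, 0, 2, 3, 1], [76, 52, 53, 42, 74, 43]),
      ([1, 3, 4, 5, 3, 2, 1, 3, 4, 0, 2, 3, 1], [76, 43, 54, 72, 44, 52]),
      ([2, 3, 4, 5, 3, 2, 1, 3, 4, 0, 2, 3, 1], [55, 54, 43, 75, 45, 53]),
      ([2, 1, 3, 4, 5, 2, 1, 3, 4, 0, 2, 3, 1], [56, 45, 44, 77, 54, 74]),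
      ([0, 2, 3, 4, 5, 2, 1, 3, 4, 0, 2, 3, 1], [45, 56, 76, 46, 55, 74]),
      ([1, 3, 4, 5, 4, 3, 2, 1, 3, 4, 0, 2, 3, 1], [76, 47, 57, 72, 74, 48]),
      ([2, 3, 4, 5, 4, 3, 2, 1, 3, 4, 0, 2, 3, 1], [58, 57, 47, 75, 74, 49]),
      ([2, 1, 3, 4, 5, 3, 2, 1, 3, 4, 0, 2, 3, 1], [59, 49, 48, 60, 50, 57]),
      ([0, 2, 3, 4, 5, 3, 2, 1, 3, 4, 0, 2, 3, 1], [49, 59, 76, 75, 51, 58]),
      ([0, 2, 1, 3, 4, 5, 2, 1, 3, 4, 0, 2, 3, 1], [50, 51, 76, 77, 59, 74]),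
      ([2, 1, 3, 4, 5, 4, 3, 2, 1, 3, 4, 0, 2, 3, 1], [61, 53, 52, 62, 74, 54]),
      ([0, 2, 3, 4, 5, 4, 3, 2, 1, 3, 4, 0, 2, 3, 1], [53, 61, 76, 75, 74, 55]),
      ([0, 2, 1, 3, 4, 5, 3, 2, 1, 3, 4, 0, 2, 3, 1], [54, 55, 76, 63, 56, 61]),
      ([3, 2, 1, 3, 4, 5, 3, 2, 1, 3, 4, 0, 2, 3, 1], [63, 75, 72, 54, 77, 62]),
      ([0, 2, 1, 3, 4, 5, 4, 3, 2, 1, 3, 4, 0, 2, 3, 1], [57, 58, 76, 64, 74, 59]),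
      ([3, 2, 1, 3, 4, 5, 4, 3, 2, 1, 3, 4, 0, 2, 3, 1], [64, 75, 72, 57, 65, 60]),
      ([3, 0, 2, 1, 3, 4, 5, 3, 2, 1, 3, 4, 0, 2, 3, 1], [60, 75, 66, 59, 77, 64]),
      ([3, 0, 2, 1, 3, 4, 5, 4, 3, 2, 1, 3, 4, 0, 2, 3, 1], [62, 75, 67, 61, 68, 63]),
      ([4, 3, 2, 1, 3, 4, 5, 4, 3, 2, 1, 3, 4, 0, 2, 3, 1], [68, 75, 72, 74, 62, 77]),
      ([2, 3, 0, 2, 1, 3, 4, 5, 3, 2, 1, 3, 4, 0, 2, 3, 1], [72, 75, 63, 76, 77, 67]),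
      ([2, 3, 0, 2, 1, 3, 4, 5, 4, 3, 2, 1, 3, 4, 0, 2, 3, 1], [72, 75, 64, 76, 69, 66]),
      ([4, 3, 0, 2, 1, 3, 4, 5, 4, 3, 2, 1, 3, 4, 0, 2, 3, 1], [65, 75, 69, 74, 64, 77]),
      ([4, 2, 3, 0, 2, 1, 3, 4, 5, 4, 3, 2, 1, 3, 4, 0, 2, 3, 1], [72, 75, 68, 70, 67, 77]),
      ([3, 4, 2, 3, 0, 2, 1, 3, 4, 5, 4, 3, 2, 1, 3, 4, 0, 2, 3, 1], [72, 71, 74, 69, 76, 77]),
      ([1, 3, 4, 2, 3, 0, 2, 1, 3, 4, 5, 4, 3, 2, 1, 3, 4, 0, 2, 3, 1], [72, 70, 74, 75, 76, 77])]⟩,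
  ⟨[2, 3, 4], 60, [37, 39, 40, 42, 43, 44],
    [([], [1, 0, 32, 33, 34, 2]),
      ([0], [0, 0, 3, 33, 34, 4]),
      ([5], [4, 0, 32, 33, 5, 0]),
      ([2, 0], [32, 0, 1, 6, 34, 7]),
      ([5, 0], [2, 0, 7, 33, 8, 1]),
      ([4, 5], [8, 0, 32, 9, 2, 34]),
      ([3, 2, 0], [32, 0, 33, 3, 10, 11]),
      ([5, 2, 0], [32, 0, 4, 11, 12, 3]),
      ([4, 5, 0], [5, 0, 12, 13, 4, 34]),
      ([3, 4, 5], [13, 0, 14, 5, 33, 34]),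
      ([4, 3, 2, 0], [32, 0, 33, 34, 6, 15]),
      ([5, 3, 2, 0], [32, 0, 33, 7, 16, 6]),
      ([4, 5, 2, 0], [32, 0, 8, 17, 7, 34]),
      ([3, 4, 5, 0], [9, 0, 18, 8, 33, 34]),
      ([2, 3, 4, 5], [19, 0, 9, 32, 33, 34]),
      ([5, 4, 3, 2, 0], [32, 0, 33, 34, 20, 10]),
      ([4, 5, 3, 2, 0], [32, 0, 33, 21, 11, 20]),
      ([3, 4, 5, 2, 0], [32, 0, 22, 12, 21, 34]),
      ([2, 3, 4, 5, 0], [23, 0, 13, 22, 33, 34]),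
      ([0, 2, 3, 4, 5], [14, 0, 23, 32, 33, 34]),
      ([4, 5, 4, 3, 2, 0], [32, 0, 33, 24, 15, 16]),
      ([3, 4, 5, 3, 2, 0], [32, 0, 25, 16, 17, 24]),
      ([2, 3, 4, 5, 2, 0], [26, 0, 17, 18, 25, 34]),
      ([0, 2, 3, 4, 5, 0], [18, 0, 19, 26, 33, 34]),
      ([3, 4, 5, 4, 3, 2, 0], [32, 0, 27, 20, 34, 21]),
      ([2, 3, 4, 5, 3, 2, 0], [28, 0, 21, 33, 22, 27]),
      ([0, 2, 3, 4, 5, 2, 0], [22, 0, 32, 23, 28, 34]),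
      ([2, 3, 4, 5, 4, 3, 2, 0], [29, 0, 24, 33, 34, 25]),
      ([0, 2, 3, 4, 5, 3, 2, 0], [25, 0, 32, 33, 26, 29]),
      ([0, 2, 3, 4, 5, 4, 3, 2, 0], [27, 0, 32, 33, 34, 28])]⟩,
  ⟨[3], 44, [39],
    [([], [0, 0, 1, 15, 2, 0]),
      ([2], [0, 0, 0, 3, 4, 0]),
      ([4], [0, 0, 4, 5, 0, 0]),
      ([3, 2], [0, 0, 15, 1, 6, 0]),
      ([4, 2], [0, 0, 2, 7, 1, 0]),
      ([3, 4], [0, 0, 8, 2, 15, 0]),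
      ([4, 3, 2], [0, 0, 15, 9, 3, 0]),
      ([3, 4, 2], [0, 0, 10, 4, 9, 0]),
      ([2, 3, 4], [0, 0, 5, 10, 15, 0]),
      ([3, 4, 3, 2], [0, 0, 11, 6, 7, 0]),
      ([2, 3, 4, 2], [0, 0, 7, 8, 11, 0]),
      ([2, 3, 4, 3, 2], [0, 0, 9, 15, 10, 0])]⟩,
  ⟨[], 39, [],
    [([], [0, 0, 0, 1, 0, 0]),
      ([3], [0, 0, 0, 0, 0, 0])]⟩]

theorem levsOK_E6 : levsOK chevE6 (List.range chevE6.rank) levsE6 = true := by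
  decide +kernel

theorem poly_E6 : cprod (levsE6.map fun lv => cpolyT lv.T) = cprod ([2, 5, 6, 8, 9, 12].map cgeom) := by
  decide +kernel

theorem reflOK_E6 : reflOK chevE6 adjE6 = true := by decide +kernel
theorem carLinOK_E6 : carLinOK chevE6 adjE6 3 = true := by decide +kernel
theorem basisOK_E6 : basisOK chevE6 adjE6 3 = true := by decide +kernel
theorem lexAllOK_E6 : lexAllOK chevE6 adjE6 10 = true := by decide +kernel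
theorem unitAllOK_E6 : unitAllOK chevE6 = true := by decide +kernel

end Cfsg.Agent.Helper7
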