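import Cfsg.Agent.Helper7.ChevOrder
import Cfsg.Agent.Helper7.ChkLevi

set_option autoImplicit false
set_option maxHeartbeats 4000000
set_option maxRecDepth 100000
open Cfsg

namespace Cfsg.Agent.Helper7

open Cfsg.Lie

def levsE7 : List Lev := [
  ⟨[1, 2, 3, 4, 5, 6], 125, [63, 64, 65, 66, 67, 68, 69, 70, 71, 72, 73, 74, 75, 76, 77, 78, 79, 80, 81, 82, 83, 84, 85, 86, 87, 88, 89, 90, 91, 92],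
    [([], [1, 127, 128, 129, 130, 131, 132]),
      ([0], [0, 127, 2, 129, 130, 131, 132]),
      ([2, 0], [128, 127, 1, 3, 130, 131, 132]),
      ([3, 2, 0], [128, 4, 129, 2, 5, 131, 132]),
      ([1, 3, 2, 0], [128, 3, 129, 127, 6, 131, 132]),
      ([4, 3, 2, 0], [128, 6, 129, 130, 3, 7, 132]),
      ([4, 1, 3, 2, 0], [128, 5, 129, 8, 4, 9, 132]),
      ([5, 4, 3, 2, 0], [128, 9, 129, 130, 131, 5, 10]),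
      ([3, 4, 1, 3, 2, 0], [128, 130, 11, 6, 127, 12, 132]),
      ([5, 4, 1, 3, 2, 0], [128, 7, 129, 12, 131, 6, 13]),
      ([6, 5, 4, 3, 2, 0], [128, 13, 129, 130, 131, 132, 7]),
      ([2, 3, 4, 1, 3, 2, 0], [14, 130, 8, 129, 127, 15, 132]),
      ([5, 3, 4, 1, 3, 2, 0], [128, 130, 15, 9, 16, 8, 17]),
      ([6, 5, 4, 1, 3, 2, 0], [128, 10, 129, 17, 131, 132, 9]),
      ([0, 2, 3, 4, 1, 3, 2, 0], [11, 130, 128, 129, 127, 18, 132]),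
      ([5, 2, 3, 4, 1, 3, 2, 0], [18, 130, 12, 129, 19, 11, 20]),
      ([4, 5, 3, 4, 1, 3, 2, 0], [128, 130, 19, 131, 12, 127, 21]),
      ([6, 5, 3, 4, 1, 3, 2, 0], [128, 130, 20, 13, 21, 132, 12]),
      ([5, 0, 2, 3, 4, 1, 3, 2, 0], [15, 130, 128, 129, 22, 14, 23]),
      ([4, 5, 2, 3, 4, 1, 3, 2, 0], [22, 130, 16, 24, 15, 127, 25]),
      ([6, 5, 2, 3, 4, 1, 3, 2, 0], [23, 130, 17, 129, 25, 132, 15]),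
      ([6, 4, 5, 3, 4, 1, 3, 2, 0], [128, 130, 25, 131, 17, 26, 16]),
      ([4, 5, 0, 2, 3, 4, 1, 3, 2, 0], [19, 130, 128, 27, 18, 127, 28]),
      ([6, 5, 0, 2, 3, 4, 1, 3, 2, 0], [20, 130, 128, 129, 28, 132, 18]),
      ([3, 4, 5, 2, 3, 4, 1, 3, 2, 0], [27, 29, 131, 19, 129, 127, 30]),
      ([6, 4, 5, 2, 3, 4, 1, 3, 2, 0], [28, 130, 21, 30, 20, 31, 19]),
      ([5, 6, 4, 5, 3, 4, 1, 3, 2, 0], [128, 130, 31, 131, 132, 21, 127]),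
      ([3, 4, 5, 0, 2, 3, 4, 1, 3, 2, 0], [24, 32, 33, 22, 129, 127, 34]),
      ([6, 4, 5, 0, 2, 3, 4, 1, 3, 2, 0], [25, 130, 128, 34, 23, 35, 22]),
      ([1, 3, 4, 5, 2, 3, 4, 1, 3, 2, 0], [32, 24, 131, 130, 129, 127, 36]),
      ([6, 3, 4, 5, 2, 3, 4, 1, 3, 2, 0], [34, 36, 131, 25, 129, 37, 24]),
      ([5, 6, 4, 5, 2, 3, 4, 1, 3, 2, 0], [35, 130, 26, 37, 132, 25, 127]),
      ([1, 3, 4, 5, 0, 2, 3, 4, 1, 3, 2, 0], [29, 27, 38, 130, 129, 127, 39]),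
      ([2, 3, 4, 5, 0, 2, 3, 4, 1, 3, 2, 0], [131, 38, 27, 128, 129, 127, 40]),
      ([6, 3, 4, 5, 0, 2, 3, 4, 1, 3, 2, 0], [30, 39, 40, 28, 129, 41, 27]),
      ([5, 6, 4, 5, 0, 2, 3, 4, 1, 3, 2, 0], [31, 130, 128, 41, 132, 28, 127]),
      ([6, 1, 3, 4, 5, 2, 3, 4, 1, 3, 2, 0], [39, 30, 131, 130, 129, 42, 29]),
      ([5, 6, 3, 4, 5, 2, 3, 4, 1, 3, 2, 0], [41, 42, 131, 31, 43, 30, 127]),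
      ([2, 1, 3, 4, 5, 0, 2, 3, 4, 1, 3, 2, 0], [131, 33, 32, 44, 129, 127, 45]),
      ([6, 1, 3, 4, 5, 0, 2, 3, 4, 1, 3, 2, 0], [36, 34, 45, 130, 129, 46, 32]),
      ([6, 2, 3, 4, 5, 0, 2, 3, 4, 1, 3, 2, 0], [131, 45, 34, 128, 129, 47, 33]),
      ([5, 6, 3, 4, 5, 0, 2, 3, 4, 1, 3, 2, 0], [37, 46, 47, 35, 48, 34, 127]),
      ([5, 6, 1, 3, 4, 5, 2, 3, 4, 1, 3, 2, 0], [46, 37, 131, 130, 49, 36, 127]),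
      ([4, 5, 6, 3, 4, 5, 2, 3, 4, 1, 3, 2, 0], [48, 49, 131, 132, 37, 129, 127]),
      ([3, 2, 1, 3, 4, 5, 0, 2, 3, 4, 1, 3, 2, 0], [131, 128, 130, 38, 50, 127, 51]),
      ([6, 2, 1, 3, 4, 5, 0, 2, 3, 4, 1, 3, 2, 0], [131, 40, 39, 51, 129, 52, 38]),
      ([5, 6, 1, 3, 4, 5, 0, 2, 3, 4, 1, 3, 2, 0], [42, 41, 52, 130, 53, 39, 127]),
      ([5, 6, 2, 3, 4, 5, 0, 2, 3, 4, 1, 3, 2, 0], [131, 52, 41, 128, 54, 40, 127]),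
      ([4, 5, 6, 3, 4, 5, 0, 2, 3, 4, 1, 3, 2, 0], [43, 53, 54, 132, 41, 129, 127]),
      ([4, 5, 6, 1, 3, 4, 5, 2, 3, 4, 1, 3, 2, 0], [53, 43, 131, 55, 42, 129, 127]),
      ([4, 3, 2, 1, 3, 4, 5, 0, 2, 3, 4, 1, 3, 2, 0], [131, 128, 130, 129, 44, 56, 57]),
      ([6, 3, 2, 1, 3, 4, 5, 0, 2, 3, 4, 1, 3, 2, 0], [131, 128, 130, 45, 57, 58, 44]),
      ([5, 6, 2, 1, 3, 4, 5, 0, 2, 3, 4, 1, 3, 2, 0], [131, 47, 46, 58, 59, 45, 127]),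
      ([4, 5, 6, 1, 3, 4, 5, 0, 2, 3, 4, 1, 3, 2, 0], [49, 48, 59, 60, 46, 129, 127]),
      ([4, 5, 6, 2, 3, 4, 5, 0, 2, 3, 4, 1, 3, 2, 0], [131, 59, 48, 61, 47, 129, 127]),
      ([3, 4, 5, 6, 1, 3, 4, 5, 2, 3, 4, 1, 3, 2, 0], [60, 132, 62, 49, 130, 129, 127]),
      ([5, 4, 3, 2, 1, 3, 4, 5, 0, 2, 3, 4, 1, 3, 2, 0], [131, 128, 130, 129, 127, 50, 63]),
      ([6, 4, 3, 2, 1, 3, 4, 5, 0, 2, 3, 4, 1, 3, 2, 0], [131, 128, 130, 129, 51, 64, 50]),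
      ([5, 6, 3, 2, 1, 3, 4, 5, 0, 2, 3, 4, 1, 3, 2, 0], [131, 128, 130, 52, 65, 51, 127]),
      ([4, 5, 6, 2, 1, 3, 4, 5, 0, 2, 3, 4, 1, 3, 2, 0], [131, 54, 53, 66, 52, 129, 127]),
      ([3, 4, 5, 6, 1, 3, 4, 5, 0, 2, 3, 4, 1, 3, 2, 0], [55, 132, 67, 53, 130, 129, 127]),
      ([3, 4, 5, 6, 2, 3, 4, 5, 0, 2, 3, 4, 1, 3, 2, 0], [131, 68, 132, 54, 128, 129, 127]),
      ([2, 3, 4, 5, 6, 1, 3, 4, 5, 2, 3, 4, 1, 3, 2, 0], [69, 132, 55, 131, 130, 129, 127]),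
      ([6, 5, 4, 3, 2, 1, 3, 4, 5, 0, 2, 3, 4, 1, 3, 2, 0], [131, 128, 130, 129, 127, 70, 56]),
      ([5, 6, 4, 3, 2, 1, 3, 4, 5, 0, 2, 3, 4, 1, 3, 2, 0], [131, 128, 130, 129, 71, 57, 70]),
      ([4, 5, 6, 3, 2, 1, 3, 4, 5, 0, 2, 3, 4, 1, 3, 2, 0], [131, 128, 130, 72, 58, 71, 127]),
      ([3, 4, 5, 6, 2, 1, 3, 4, 5, 0, 2, 3, 4, 1, 3, 2, 0], [131, 73, 74, 59, 72, 129, 127]),
      ([2, 3, 4, 5, 6, 1, 3, 4, 5, 0, 2, 3, 4, 1, 3, 2, 0], [75, 132, 60, 74, 130, 129, 127]),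
      ([1, 3, 4, 5, 6, 2, 3, 4, 5, 0, 2, 3, 4, 1, 3, 2, 0], [131, 61, 132, 73, 128, 129, 127]),
      ([0, 2, 3, 4, 5, 6, 1, 3, 4, 5, 2, 3, 4, 1, 3, 2, 0], [62, 132, 75, 131, 130, 129, 127]),
      ([5, 6, 5, 4, 3, 2, 1, 3, 4, 5, 0, 2, 3, 4, 1, 3, 2, 0], [131, 128, 130, 129, 76, 63, 64]),
      ([4, 5, 6, 4, 3, 2, 1, 3, 4, 5, 0, 2, 3, 4, 1, 3, 2, 0], [131, 128, 130, 77, 64, 65, 76]),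
      ([3, 4, 5, 6, 3, 2, 1, 3, 4, 5, 0, 2, 3, 4, 1, 3, 2, 0], [131, 78, 79, 65, 66, 77, 127]),
      ([1, 3, 4, 5, 6, 2, 1, 3, 4, 5, 0, 2, 3, 4, 1, 3, 2, 0], [131, 66, 80, 68, 78, 129, 127]),
      ([2, 3, 4, 5, 6, 2, 1, 3, 4, 5, 0, 2, 3, 4, 1, 3, 2, 0], [81, 80, 66, 67, 79, 129, 127]),
      ([0, 2, 3, 4, 5, 6, 1, 3, 4, 5, 0, 2, 3, 4, 1, 3, 2, 0], [67, 132, 69, 81, 130, 129, 127]),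
      ([4, 5, 6, 5, 4, 3, 2, 1, 3, 4, 5, 0, 2, 3, 4, 1, 3, 2, 0], [131, 128, 130, 82, 70, 127, 71]),
      ([3, 4, 5, 6, 4, 3, 2, 1, 3, 4, 5, 0, 2, 3, 4, 1, 3, 2, 0], [131, 83, 84, 71, 129, 72, 82]),
      ([1, 3, 4, 5, 6, 3, 2, 1, 3, 4, 5, 0, 2, 3, 4, 1, 3, 2, 0], [131, 72, 85, 128, 73, 83, 127]),
      ([2, 3, 4, 5, 6, 3, 2, 1, 3, 4, 5, 0, 2, 3, 4, 1, 3, 2, 0], [86, 85, 72, 130, 74, 84, 127]),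
      ([2, 1, 3, 4, 5, 6, 2, 1, 3, 4, 5, 0, 2, 3, 4, 1, 3, 2, 0], [87, 74, 73, 132, 85, 129, 127]),
      ([0, 2, 3, 4, 5, 6, 2, 1, 3, 4, 5, 0, 2, 3, 4, 1, 3, 2, 0], [74, 87, 131, 75, 86, 129, 127]),
      ([3, 4, 5, 6, 5, 4, 3, 2, 1, 3, 4, 5, 0, 2, 3, 4, 1, 3, 2, 0], [131, 88, 89, 76, 129, 127, 77]),
      ([1, 3, 4, 5, 6, 4, 3, 2, 1, 3, 4, 5, 0, 2, 3, 4, 1, 3, 2, 0], [131, 77, 90, 128, 129, 78, 88]),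
      ([2, 3, 4, 5, 6, 4, 3, 2, 1, 3, 4, 5, 0, 2, 3, 4, 1, 3, 2, 0], [91, 90, 77, 130, 129, 79, 89]),
      ([2, 1, 3, 4, 5, 6, 3, 2, 1, 3, 4, 5, 0, 2, 3, 4, 1, 3, 2, 0], [92, 79, 78, 93, 80, 90, 127]),
      ([0, 2, 3, 4, 5, 6, 3, 2, 1, 3, 4, 5, 0, 2, 3, 4, 1, 3, 2, 0], [79, 92, 131, 130, 81, 91, 127]),
      ([0, 2, 1, 3, 4, 5, 6, 2, 1, 3, 4, 5, 0, 2, 3, 4, 1, 3, 2, 0], [80, 81, 131, 132, 92, 129, 127]),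
      ([1, 3, 4, 5, 6, 5, 4, 3, 2, 1, 3, 4, 5, 0, 2, 3, 4, 1, 3, 2, 0], [131, 82, 94, 128, 129, 127, 83]),
      ([2, 3, 4, 5, 6, 5, 4, 3, 2, 1, 3, 4, 5, 0, 2, 3, 4, 1, 3, 2, 0], [95, 94, 82, 130, 129, 127, 84]),
      ([2, 1, 3, 4, 5, 6, 4, 3, 2, 1, 3, 4, 5, 0, 2, 3, 4, 1, 3, 2, 0], [96, 84, 83, 97, 129, 85, 94]),
      ([0, 2, 3, 4, 5, 6, 4, 3, 2, 1, 3, 4, 5, 0, 2, 3, 4, 1, 3, 2, 0], [84, 96, 131, 130, 129, 86, 95]),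
      ([0, 2, 1, 3, 4, 5, 6, 3, 2, 1, 3, 4, 5, 0, 2, 3, 4, 1, 3, 2, 0], [85, 86, 131, 98, 87, 96, 127]),
      ([3, 2, 1, 3, 4, 5, 6, 3, 2, 1, 3, 4, 5, 0, 2, 3, 4, 1, 3, 2, 0], [98, 130, 128, 85, 132, 97, 127]),
      ([2, 1, 3, 4, 5, 6, 5, 4, 3, 2, 1, 3, 4, 5, 0, 2, 3, 4, 1, 3, 2, 0], [99, 89, 88, 100, 129, 127, 90]),
      ([0, 2, 3, 4, 5, 6, 5, 4, 3, 2, 1, 3, 4, 5, 0, 2, 3, 4, 1, 3, 2, 0], [89, 99, 131, 130, 129, 127, 91]),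
      ([0, 2, 1, 3, 4, 5, 6, 4, 3, 2, 1, 3, 4, 5, 0, 2, 3, 4, 1, 3, 2, 0], [90, 91, 131, 101, 129, 92, 99]),
      ([3, 2, 1, 3, 4, 5, 6, 4, 3, 2, 1, 3, 4, 5, 0, 2, 3, 4, 1, 3, 2, 0], [101, 130, 128, 90, 102, 93, 100]),
      ([3, 0, 2, 1, 3, 4, 5, 6, 3, 2, 1, 3, 4, 5, 0, 2, 3, 4, 1, 3, 2, 0], [93, 130, 103, 92, 132, 101, 127]),
      ([0, 2, 1, 3, 4, 5, 6, 5, 4, 3, 2, 1, 3, 4, 5, 0, 2, 3, 4, 1, 3, 2, 0], [94, 95, 131, 104, 129, 127, 96]),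
      ([3, 2, 1, 3, 4, 5, 6, 5, 4, 3, 2, 1, 3, 4, 5, 0, 2, 3, 4, 1, 3, 2, 0], [104, 130, 128, 94, 105, 127, 97]),
      ([3, 0, 2, 1, 3, 4, 5, 6, 4, 3, 2, 1, 3, 4, 5, 0, 2, 3, 4, 1, 3, 2, 0], [97, 130, 106, 96, 107, 98, 104]),
      ([4, 3, 2, 1, 3, 4, 5, 6, 4, 3, 2, 1, 3, 4, 5, 0, 2, 3, 4, 1, 3, 2, 0], [107, 130, 128, 129, 97, 132, 105]),
      ([2, 3, 0, 2, 1, 3, 4, 5, 6, 3, 2, 1, 3, 4, 5, 0, 2, 3, 4, 1, 3, 2, 0], [128, 130, 98, 131, 132, 106, 127]),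
      ([3, 0, 2, 1, 3, 4, 5, 6, 5, 4, 3, 2, 1, 3, 4, 5, 0, 2, 3, 4, 1, 3, 2, 0], [100, 130, 108, 99, 109, 127, 101]),
      ([4, 3, 2, 1, 3, 4, 5, 6, 5, 4, 3, 2, 1, 3, 4, 5, 0, 2, 3, 4, 1, 3, 2, 0], [109, 130, 128, 129, 100, 110, 102]),
      ([2, 3, 0, 2, 1, 3, 4, 5, 6, 4, 3, 2, 1, 3, 4, 5, 0, 2, 3, 4, 1, 3, 2, 0], [128, 130, 101, 131, 111, 103, 108]),
      ([4, 3, 0, 2, 1, 3, 4, 5, 6, 4, 3, 2, 1, 3, 4, 5, 0, 2, 3, 4, 1, 3, 2, 0], [102, 130, 111, 129, 101, 132, 109]),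
      ([2, 3, 0, 2, 1, 3, 4, 5, 6, 5, 4, 3, 2, 1, 3, 4, 5, 0, 2, 3, 4, 1, 3, 2, 0], [128, 130, 104, 131, 112, 127, 106]),
      ([4, 3, 0, 2, 1, 3, 4, 5, 6, 5, 4, 3, 2, 1, 3, 4, 5, 0, 2, 3, 4, 1, 3, 2, 0], [105, 130, 112, 129, 104, 113, 107]),
      ([5, 4, 3, 2, 1, 3, 4, 5, 6, 5, 4, 3, 2, 1, 3, 4, 5, 0, 2, 3, 4, 1, 3, 2, 0], [113, 130, 128, 129, 127, 105, 132]),
      ([4, 2, 3, 0, 2, 1, 3, 4, 5, 6, 4, 3, 2, 1, 3, 4, 5, 0, 2, 3, 4, 1, 3, 2, 0], [128, 130, 107, 114, 106, 132, 112]),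
      ([4, 2, 3, 0, 2, 1, 3, 4, 5, 6, 5, 4, 3, 2, 1, 3, 4, 5, 0, 2, 3, 4, 1, 3, 2, 0], [128, 130, 109, 115, 108, 116, 111]),
      ([5, 4, 3, 0, 2, 1, 3, 4, 5, 6, 5, 4, 3, 2, 1, 3, 4, 5, 0, 2, 3, 4, 1, 3, 2, 0], [110, 130, 116, 129, 127, 109, 132]),
      ([3, 4, 2, 3, 0, 2, 1, 3, 4, 5, 6, 4, 3, 2, 1, 3, 4, 5, 0, 2, 3, 4, 1, 3, 2, 0], [128, 117, 129, 111, 131, 132, 115]),
      ([3, 4, 2, 3, 0, 2, 1, 3, 4, 5, 6, 5, 4, 3, 2, 1, 3, 4, 5, 0, 2, 3, 4, 1, 3, 2, 0], [128, 118, 129, 112, 131, 119, 114]),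
      ([5, 4, 2, 3, 0, 2, 1, 3, 4, 5, 6, 5, 4, 3, 2, 1, 3, 4, 5, 0, 2, 3, 4, 1, 3, 2, 0], [128, 130, 113, 119, 127, 112, 132]),
      ([1, 3, 4, 2, 3, 0, 2, 1, 3, 4, 5, 6, 4, 3, 2, 1, 3, 4, 5, 0, 2, 3, 4, 1, 3, 2, 0], [128, 114, 129, 130, 131, 132, 118]),
      ([1, 3, 4, 2, 3, 0, 2, 1, 3, 4, 5, 6, 5, 4, 3, 2, 1, 3, 4, 5, 0, 2, 3, 4, 1, 3, 2, 0], [128, 115, 129, 130, 131, 120, 117]),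
      ([5, 3, 4, 2, 3, 0, 2, 1, 3, 4, 5, 6, 5, 4, 3, 2, 1, 3, 4, 5, 0, 2, 3, 4, 1, 3, 2, 0], [128, 120, 129, 116, 121, 115, 132]),
      ([5, 1, 3, 4, 2, 3, 0, 2, 1, 3, 4, 5, 6, 5, 4, 3, 2, 1, 3, 4, 5, 0, 2, 3, 4, 1, 3, 2, 0], [128, 119, 129, 130, 122, 118, 132]),
      ([4, 5, 3, 4, 2, 3, 0, 2, 1, 3, 4, 5, 6, 5, 4, 3, 2, 1, 3, 4, 5, 0, 2, 3, 4, 1, 3, 2, 0], [128, 122, 129, 127, 119, 131, 132]),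
      ([4, 5, 1, 3, 4, 2, 3, 0, 2, 1, 3, 4, 5, 6, 5, 4, 3, 2, 1, 3, 4, 5, 0, 2, 3, 4, 1, 3, 2, 0], [128, 121, 129, 123, 120, 131, 132]),
      ([3, 4, 5, 1, 3, 4, 2, 3, 0, 2, 1, 3, 4, 5, 6, 5, 4, 3, 2, 1, 3, 4, 5, 0, 2, 3, 4, 1, 3, 2, 0], [128, 127, 124, 122, 130, 131, 132]),
      ([2, 3, 4, 5, 1, 3, 4, 2, 3, 0, 2, 1, 3, 4, 5, 6, 5, 4, 3, 2, 1, 3, 4, 5, 0, 2, 3, 4, 1, 3, 2, 0], [125, 127, 123, 129, 130, 131, 132]),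
      ([0, 2, 3, 4, 5, 1, 3, 4, 2, 3, 0, 2, 1, 3, 4, 5, 6, 5, 4, 3, 2, 1, 3, 4, 5, 0, 2, 3, 4, 1, 3, 2, 0], [124, 127, 128, 129, 130, 131, 132])]⟩,
  ⟨[1, 2, 3, 4, 6], 92, [63, 66, 69, 70, 73, 74, 75, 78, 79, 80, 83, 84, 87],
    [([], [0, 61, 62, 63, 64, 1, 66]),
      ([5], [0, 61, 62, 63, 2, 0, 3]),
      ([4, 5], [0, 61, 62, 4, 1, 64, 5]),
      ([6, 5], [0, 61, 62, 63, 5, 66, 1]),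
      ([3, 4, 5], [0, 6, 7, 2, 63, 64, 8]),
      ([6, 4, 5], [0, 61, 62, 8, 3, 9, 2]),
      ([1, 3, 4, 5], [0, 4, 10, 61, 63, 64, 11]),
      ([2, 3, 4, 5], [0, 10, 4, 62, 63, 64, 12]),
      ([6, 3, 4, 5], [0, 11, 12, 5, 63, 13, 4]),
      ([5, 6, 4, 5], [0, 61, 62, 13, 66, 5, 64]),
      ([2, 1, 3, 4, 5], [0, 7, 6, 14, 63, 64, 15]),
      ([6, 1, 3, 4, 5], [0, 8, 15, 61, 63, 16, 6]),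
      ([6, 2, 3, 4, 5], [0, 15, 8, 62, 63, 17, 7]),
      ([5, 6, 3, 4, 5], [0, 16, 17, 9, 18, 8, 64]),
      ([3, 2, 1, 3, 4, 5], [0, 62, 61, 10, 19, 64, 20]),
      ([6, 2, 1, 3, 4, 5], [0, 12, 11, 20, 63, 21, 10]),
      ([5, 6, 1, 3, 4, 5], [0, 13, 21, 61, 22, 11, 64]),
      ([5, 6, 2, 3, 4, 5], [0, 21, 13, 62, 23, 12, 64]),
      ([4, 5, 6, 3, 4, 5], [0, 22, 23, 66, 13, 63, 64]),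
      ([4, 3, 2, 1, 3, 4, 5], [0, 62, 61, 63, 14, 24, 25]),
      ([6, 3, 2, 1, 3, 4, 5], [0, 62, 61, 15, 25, 26, 14]),
      ([5, 6, 2, 1, 3, 4, 5], [0, 17, 16, 26, 27, 15, 64]),
      ([4, 5, 6, 1, 3, 4, 5], [0, 18, 27, 28, 16, 63, 64]),
      ([4, 5, 6, 2, 3, 4, 5], [0, 27, 18, 29, 17, 63, 64]),
      ([5, 4, 3, 2, 1, 3, 4, 5], [0, 62, 61, 63, 64, 19, 30]),
      ([6, 4, 3, 2, 1, 3, 4, 5], [0, 62, 61, 63, 20, 31, 19]),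
      ([5, 6, 3, 2, 1, 3, 4, 5], [0, 62, 61, 21, 32, 20, 64]),
      ([4, 5, 6, 2, 1, 3, 4, 5], [0, 23, 22, 33, 21, 63, 64]),
      ([3, 4, 5, 6, 1, 3, 4, 5], [0, 66, 34, 22, 61, 63, 64]),
      ([3, 4, 5, 6, 2, 3, 4, 5], [0, 35, 66, 23, 62, 63, 64]),
      ([6, 5, 4, 3, 2, 1, 3, 4, 5], [0, 62, 61, 63, 64, 36, 24]),
      ([5, 6, 4, 3, 2, 1, 3, 4, 5], [0, 62, 61, 63, 37, 25, 36]),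
      ([4, 5, 6, 3, 2, 1, 3, 4, 5], [0, 62, 61, 38, 26, 37, 64]),
      ([3, 4, 5, 6, 2, 1, 3, 4, 5], [0, 39, 40, 27, 38, 63, 64]),
      ([2, 3, 4, 5, 6, 1, 3, 4, 5], [0, 66, 28, 40, 61, 63, 64]),
      ([1, 3, 4, 5, 6, 2, 3, 4, 5], [0, 29, 66, 39, 62, 63, 64]),
      ([5, 6, 5, 4, 3, 2, 1, 3, 4, 5], [0, 62, 61, 63, 41, 30, 31]),
      ([4, 5, 6, 4, 3, 2, 1, 3, 4, 5], [0, 62, 61, 42, 31, 32, 41]),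
      ([3, 4, 5, 6, 3, 2, 1, 3, 4, 5], [0, 43, 44, 32, 33, 42, 64]),
      ([1, 3, 4, 5, 6, 2, 1, 3, 4, 5], [0, 33, 45, 35, 43, 63, 64]),
      ([2, 3, 4, 5, 6, 2, 1, 3, 4, 5], [0, 45, 33, 34, 44, 63, 64]),
      ([4, 5, 6, 5, 4, 3, 2, 1, 3, 4, 5], [0, 62, 61, 46, 36, 64, 37]),
      ([3, 4, 5, 6, 4, 3, 2, 1, 3, 4, 5], [0, 47, 48, 37, 63, 38, 46]),
      ([1, 3, 4, 5, 6, 3, 2, 1, 3, 4, 5], [0, 38, 49, 62, 39, 47, 64]),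
      ([2, 3, 4, 5, 6, 3, 2, 1, 3, 4, 5], [0, 49, 38, 61, 40, 48, 64]),
      ([2, 1, 3, 4, 5, 6, 2, 1, 3, 4, 5], [0, 40, 39, 66, 49, 63, 64]),
      ([3, 4, 5, 6, 5, 4, 3, 2, 1, 3, 4, 5], [0, 50, 51, 41, 63, 64, 42]),
      ([1, 3, 4, 5, 6, 4, 3, 2, 1, 3, 4, 5], [0, 42, 52, 62, 63, 43, 50]),
      ([2, 3, 4, 5, 6, 4, 3, 2, 1, 3, 4, 5], [0, 52, 42, 61, 63, 44, 51]),
      ([2, 1, 3, 4, 5, 6, 3, 2, 1, 3, 4, 5], [0, 44, 43, 53, 45, 52, 64]),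
      ([1, 3, 4, 5, 6, 5, 4, 3, 2, 1, 3, 4, 5], [0, 46, 54, 62, 63, 64, 47]),
      ([2, 3, 4, 5, 6, 5, 4, 3, 2, 1, 3, 4, 5], [0, 54, 46, 61, 63, 64, 48]),
      ([2, 1, 3, 4, 5, 6, 4, 3, 2, 1, 3, 4, 5], [0, 48, 47, 55, 63, 49, 54]),
      ([3, 2, 1, 3, 4, 5, 6, 3, 2, 1, 3, 4, 5], [0, 61, 62, 49, 66, 55, 64]),
      ([2, 1, 3, 4, 5, 6, 5, 4, 3, 2, 1, 3, 4, 5], [0, 51, 50, 56, 63, 64, 52]),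
      ([3, 2, 1, 3, 4, 5, 6, 4, 3, 2, 1, 3, 4, 5], [0, 61, 62, 52, 57, 53, 56]),
      ([3, 2, 1, 3, 4, 5, 6, 5, 4, 3, 2, 1, 3, 4, 5], [0, 61, 62, 54, 58, 64, 55]),
      ([4, 3, 2, 1, 3, 4, 5, 6, 4, 3, 2, 1, 3, 4, 5], [0, 61, 62, 63, 55, 66, 58]),
      ([4, 3, 2, 1, 3, 4, 5, 6, 5, 4, 3, 2, 1, 3, 4, 5], [0, 61, 62, 63, 56, 59, 57]),
      ([5, 4, 3, 2, 1, 3, 4, 5, 6, 5, 4, 3, 2, 1, 3, 4, 5], [0, 61, 62, 63, 64, 58, 66])]⟩,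
  ⟨[1, 2, 4, 6], 87, [63, 66, 73, 78],
    [([], [0, 25, 26, 1, 28, 0, 30]),
      ([3], [0, 2, 3, 0, 4, 0, 30]),
      ([1, 3], [0, 1, 5, 25, 6, 0, 30]),
      ([2, 3], [0, 5, 1, 26, 7, 0, 30]),
      ([4, 3], [0, 6, 7, 28, 1, 0, 30]),
      ([2, 1, 3], [0, 3, 2, 8, 9, 0, 30]),
      ([4, 1, 3], [0, 4, 9, 10, 2, 0, 30]),
      ([4, 2, 3], [0, 9, 4, 11, 3, 0, 30]),
      ([3, 2, 1, 3], [0, 26, 25, 5, 12, 0, 30]),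
      ([4, 2, 1, 3], [0, 7, 6, 13, 5, 0, 30]),
      ([3, 4, 1, 3], [0, 28, 14, 6, 25, 0, 30]),
      ([3, 4, 2, 3], [0, 15, 28, 7, 26, 0, 30]),
      ([4, 3, 2, 1, 3], [0, 26, 25, 16, 8, 0, 30]),
      ([3, 4, 2, 1, 3], [0, 17, 18, 9, 16, 0, 30]),
      ([2, 3, 4, 1, 3], [0, 28, 10, 18, 25, 0, 30]),
      ([1, 3, 4, 2, 3], [0, 11, 28, 17, 26, 0, 30]),
      ([3, 4, 3, 2, 1, 3], [0, 19, 20, 12, 13, 0, 30]),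
      ([1, 3, 4, 2, 1, 3], [0, 13, 21, 15, 19, 0, 30]),
      ([2, 3, 4, 2, 1, 3], [0, 21, 13, 14, 20, 0, 30]),
      ([1, 3, 4, 3, 2, 1, 3], [0, 16, 22, 26, 17, 0, 30]),
      ([2, 3, 4, 3, 2, 1, 3], [0, 22, 16, 25, 18, 0, 30]),
      ([2, 1, 3, 4, 2, 1, 3], [0, 18, 17, 28, 22, 0, 30]),
      ([2, 1, 3, 4, 3, 2, 1, 3], [0, 20, 19, 23, 21, 0, 30]),
      ([3, 2, 1, 3, 4, 3, 2, 1, 3], [0, 25, 26, 22, 28, 0, 30])]⟩,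
  ⟨[2, 4, 6], 78, [63, 66, 73],
    [([], [0, 1, 4, 0, 6, 0, 8]),
      ([1], [0, 0, 4, 0, 6, 0, 8])]⟩,
  ⟨[4, 6], 73, [63, 66],
    [([], [0, 0, 1, 0, 6, 0, 8]),
      ([2], [0, 0, 0, 0, 6, 0, 8])]⟩,
  ⟨[6], 66, [63],
    [([], [0, 0, 0, 0, 1, 0, 8]),
      ([4], [0, 0, 0, 0, 0, 0, 8])]⟩,
  ⟨[], 63, [],
    [([], [0, 0, 0, 0, 0, 0, 1]),
      ([6], [0, 0, 0, 0, 0, 0, 0])]⟩]

theorem levsOK_E7 : levsOK chevE7 (List.range chevE7.rank) levsE7 = true := by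
  decide +kernel

theorem poly_E7 : cprod (levsE7.map fun lv => cpolyT lv.T) = cprod ([2, 6, 8, 10, 12, 14, 18].map cgeom) := by
  decide +kernel

theorem reflOK_E7 : reflOK chevE7 adjE7 = true := by decide +kernel
theorem carLinOK_E7 : carLinOK chevE7 adjE7 2 = true := by decide +kernel
theorem basisOK_E7 : basisOK chevE7 adjE7 2 = true := by decide +kernel
theorem lexAllOK_E7 : lexAllOK chevE7 adjE7 10 = true := by decide +kernel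
theorem unitAllOK_E7 : unitAllOK chevE7 = true := by decide +kernel

end Cfsg.Agent.Helper7
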