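import Mathlib

set_option autoImplicit false

namespace Cfsg.Agent.Helper7



section CountChars

open Finset

variable {A : Type*} [AddCommGroup A] [Fintype A] {L : Type*} [Field L]

theorem xs_fiber_shift [DecidableEq L] (χ : A → L) (hmul : ∀ a b, χ (a + b) = χ a * χ b)
    (b : A) (hb : χ b ≠ 0) (ξ : L) :
    (univ.filter fun a => χ a = ξ * χ b).card = (univ.filter fun a => χ a = ξ).card := by
  refine Finset.card_nbij' (fun a => a - b) (fun a => a + b) ?_ ?_ ?_ ?_
  · intro a ha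
    simp only [coe_filter, mem_univ, true_and, Set.mem_ofPred_eq] at ha ⊢
    have h := hmul (a - b) b
    rw [sub_add_cancel, ha] at h
    exact (mul_right_cancel₀ hb h).symm
  · intro a ha
    simp only [coe_filter, mem_univ, true_and, Set.mem_ofPred_eq] at ha ⊢
    rw [hmul, ha]
  · intro a _; simp
  · intro a _; simp

theorem xs_fiber_card [DecidableEq L] (p : ℕ) (hp : p.Prime) (hA : ∀ a : A, p • a = 0)
    (χ : A → L) (hmul : ∀ a b, χ (a + b) = χ a * χ b) (h0 : χ 0 = 1)
    (b : A) (hb : χ b ≠ 1) (ζ : L) (hζ : ζ ^ p = 1) :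
    p * (univ.filter fun a => χ a = ζ).card = Fintype.card A := by
  have : Fact p.Prime := ⟨hp⟩
  have : NeZero p := ⟨hp.ne_zero⟩
  have hpow : ∀ (a : A) (k : ℕ), χ (k • a) = χ a ^ k := by
    intro a k
    induction k with
    | zero => simp [h0]
    | succ k ih => rw [succ_nsmul, hmul, ih, pow_succ]
  have hηp : χ b ^ p = 1 := by rw [← hpow, hA, h0]
  have hη0 : χ b ≠ 0 := by
    intro h
    rw [h, zero_pow hp.ne_zero] at hηp
    exact zero_ne_one hηp
  have hprim : IsPrimitiveRoot (χ b) p := by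
    have h1 : orderOf (χ b) = p := orderOf_eq_prime hηp hb
    rw [← h1]
    exact IsPrimitiveRoot.orderOf _
  have hfib : ∀ k : ℕ, (univ.filter fun a => χ a = χ b ^ k).card
      = (univ.filter fun a => χ a = (1 : L)).card := by
    intro k
    induction k with
    | zero => simp
    | succ k ih => rw [pow_succ, xs_fiber_shift χ hmul b hη0, ih]
  obtain ⟨i, -, hiζ⟩ := hprim.eq_pow_of_pow_eq_one hζ
  have hval : ∀ a ∈ (univ : Finset A), χ a ∈ (Finset.range p).image (fun k => χ b ^ k) := by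
    intro a _
    have h1 : χ a ^ p = 1 := by rw [← hpow, hA, h0]
    obtain ⟨j, hj, hjj⟩ := hprim.eq_pow_of_pow_eq_one h1
    exact Finset.mem_image.mpr ⟨j, Finset.mem_range.mpr hj, hjj⟩
  have hinj : Set.InjOn (fun k => χ b ^ k) (Finset.range p : Set ℕ) := by
    intro x hx y hy hxy
    exact hprim.pow_inj (Finset.mem_range.mp (by simpa using hx))
      (Finset.mem_range.mp (by simpa using hy)) hxy
  have hcard := Finset.card_eq_sum_card_fiberwise hval
  rw [Finset.sum_image hinj, Finset.card_univ] at hcard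
  rw [hcard]
  have h2 : ∀ k ∈ Finset.range p, (univ.filter fun a => χ a = χ b ^ k).card
      = (univ.filter fun a => χ a = ζ).card := by
    intro k _
    rw [hfib k, ← hiζ, hfib i]
  rw [Finset.sum_congr rfl h2]
  simp

theorem xs_count [DecidableEq L] [DecidableEq A] (p : ℕ) (hp : p.Prime)
    (hA : ∀ a : A, p • a = 0)
    (S : Finset (A → L)) (hS : S.Nonempty)
    (hmul : ∀ χ ∈ S, ∀ a b, χ (a + b) = χ a * χ b) (h0 : ∀ χ ∈ S, χ 0 = 1)
    (hnt : ∀ χ ∈ S, ∃ b, χ b ≠ 1)
    (htr : ∀ a b : A, a ≠ 0 → b ≠ 0 → ∃ e : A ≃ A, e a = b ∧ ∀ χ ∈ S, χ ∘ e ∈ S) :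
    Fintype.card A - 1 ≤ S.card := by
  obtain ⟨χ₀, hχ₀⟩ := hS
  obtain ⟨a₀, ha₀⟩ := hnt χ₀ hχ₀
  have hpow : ∀ χ ∈ S, ∀ (a : A) (k : ℕ), χ (k • a) = χ a ^ k := by
    intro χ hχ a k
    induction k with
    | zero => simp [h0 χ hχ]
    | succ k ih => rw [succ_nsmul, hmul χ hχ, ih, pow_succ]
  have hζp : χ₀ a₀ ^ p = 1 := by rw [← hpow χ₀ hχ₀, hA, h0 χ₀ hχ₀]
  have ha₀0 : a₀ ≠ 0 := by
    intro h
    rw [h, h0 χ₀ hχ₀] at ha₀
    exact ha₀ rfl
  have hle : ∀ a b : A, a ≠ 0 → b ≠ 0 →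
      (S.filter fun χ => χ b = χ₀ a₀).card ≤ (S.filter fun χ => χ a = χ₀ a₀).card := by
    intro a b ha hb
    obtain ⟨e, hea, heS⟩ := htr a b ha hb
    refine Finset.card_le_card_of_injOn (fun χ => χ ∘ e) ?_ ?_
    · intro χ hχ
      have hχ' := Finset.mem_filter.mp (Finset.mem_coe.mp hχ)
      refine Finset.mem_coe.mpr (Finset.mem_filter.mpr ⟨heS χ hχ'.1, ?_⟩)
      show χ (e a) = χ₀ a₀
      rw [hea]; exact hχ'.2
    · intro χ _ χ' _ h
      funext x
      have h1 := congrFun h (e.symm x)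
      simpa using h1
  have heq : ∀ a : A, a ≠ 0 →
      (S.filter fun χ => χ a = χ₀ a₀).card = (S.filter fun χ => χ a₀ = χ₀ a₀).card :=
    fun a ha => le_antisymm (hle a₀ a ha₀0 ha) (hle a a₀ ha ha₀0)
  have hm0 : (S.filter fun χ => χ (0 : A) = χ₀ a₀).card = 0 := by
    rw [Finset.card_eq_zero, Finset.filter_eq_empty_iff]
    intro χ hχ h
    rw [h0 χ hχ] at h
    exact ha₀ h.symm
  have hdc : ∑ a : A, (S.filter fun χ => χ a = χ₀ a₀).card
      = ∑ χ ∈ S, (univ.filter fun a => χ a = χ₀ a₀).card := by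
    simp only [Finset.card_filter]
    rw [Finset.sum_comm]
  have hfib : ∀ χ ∈ S, p * (univ.filter fun a => χ a = χ₀ a₀).card = Fintype.card A := by
    intro χ hχ
    obtain ⟨b, hb⟩ := hnt χ hχ
    exact xs_fiber_card p hp hA χ (hmul χ hχ) (h0 χ hχ) b hb _ hζp
  have hsum : ∑ a : A, (S.filter fun χ => χ a = χ₀ a₀).card
      = (Fintype.card A - 1) * (S.filter fun χ => χ a₀ = χ₀ a₀).card := by
    rw [← Finset.sum_erase (univ : Finset A) hm0,
      Finset.sum_congr rfl (fun a ha => heq a (Finset.ne_of_mem_erase ha))]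
    simp [Finset.card_erase_of_mem, Finset.card_univ]
  have hkey : (Fintype.card A - 1) * (p * (S.filter fun χ => χ a₀ = χ₀ a₀).card)
      = S.card * Fintype.card A := by
    have h1 : p * ∑ a : A, (S.filter fun χ => χ a = χ₀ a₀).card = S.card * Fintype.card A := by
      rw [hdc, Finset.mul_sum, Finset.sum_congr rfl hfib]
      simp
    rw [hsum] at h1
    rw [← h1]; ring
  have hcop : Nat.Coprime (Fintype.card A - 1) (Fintype.card A) := by
    obtain ⟨k, hk⟩ : ∃ k, Fintype.card A = k + 1 :=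
      ⟨Fintype.card A - 1, by have := Fintype.card_pos (α := A); omega⟩
    rw [hk]
    simp
  have hdvd : (Fintype.card A - 1) ∣ S.card :=
    hcop.dvd_of_dvd_mul_right ⟨_, hkey.symm⟩
  exact Nat.le_of_dvd (Finset.card_pos.mpr ⟨χ₀, hχ₀⟩) hdvd

end CountChars



section Unip

variable {F : Type*} [Field F] {m : ℕ}

def xsC (a : Fin m → F) : Matrix (Fin (m + 1)) (Fin (m + 1)) F :=
  Matrix.of fun i j => if j = 0 then (Fin.cases 0 a i : F) else 0

theorem xsC_apply (a : Fin m → F) (i j : Fin (m + 1)) :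
    xsC a i j = if j = 0 then (Fin.cases 0 a i : F) else 0 := rfl

theorem xsC_add (a b : Fin m → F) : xsC (a + b) = xsC a + xsC b := by
  ext i j
  simp only [xsC_apply, Matrix.add_apply]
  split_ifs with h
  · refine Fin.cases ?_ (fun i' => ?_) i <;> simp
  · simp

theorem xsC_zero : xsC (0 : Fin m → F) = 0 := by
  ext i j
  simp only [xsC_apply, Matrix.zero_apply]
  split_ifs with h
  · refine Fin.cases ?_ (fun i' => ?_) i <;> simp
  · rfl

theorem xsC_mul (a b : Fin m → F) : xsC a * xsC b = 0 := by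
  ext i j
  simp only [Matrix.mul_apply, xsC_apply, Matrix.zero_apply]
  rw [Finset.sum_eq_single 0]
  · simp
  · intro l _ hl; simp [hl]
  · simp

theorem xsC_det (a : Fin m → F) : (1 + xsC a).det = 1 := by
  rw [Matrix.det_of_isLowerTriangular]
  · apply Finset.prod_eq_one
    intro i _
    simp only [Matrix.add_apply, Matrix.one_apply_eq, xsC_apply]
    refine Fin.cases ?_ (fun i' => ?_) i
    · simp
    · simp [Fin.succ_ne_zero]
  · intro i j hij
    have hij' : i < j := hij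
    have hj : j ≠ 0 := by
      intro h
      rw [h] at hij'
      exact absurd hij' (Fin.not_lt_zero i)
    simp [Matrix.add_apply, xsC_apply, hj, Matrix.one_apply_ne (ne_of_lt hij')]

def xsU (a : Fin m → F) : Matrix.SpecialLinearGroup (Fin (m + 1)) F := ⟨1 + xsC a, xsC_det a⟩

theorem xsU_coe (a : Fin m → F) :
    ((xsU a : Matrix.SpecialLinearGroup (Fin (m + 1)) F) : Matrix (Fin (m + 1)) (Fin (m + 1)) F)
      = 1 + xsC a := rfl

theorem xsU_mul (a b : Fin m → F) : xsU a * xsU b = xsU (a + b) := by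
  apply Subtype.ext
  show (1 + xsC a) * (1 + xsC b) = 1 + xsC (a + b)
  rw [xsC_add, add_mul, mul_add, mul_add, xsC_mul, one_mul, one_mul, mul_one, add_zero]
  abel

theorem xsU_zero : xsU (0 : Fin m → F) = 1 := by
  apply Subtype.ext
  show 1 + xsC (0 : Fin m → F) = 1
  rw [xsC_zero, add_zero]

def xsB (g : Matrix (Fin m) (Fin m) F) : Matrix (Fin (m + 1)) (Fin (m + 1)) F :=
  Matrix.of fun i j =>
    (Fin.cases (Fin.cases 1 (fun _ => 0) j) (fun i' => Fin.cases 0 (fun j' => g i' j') j) i : F)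

theorem xsB_zero_zero (g : Matrix (Fin m) (Fin m) F) : xsB g 0 0 = 1 := rfl
theorem xsB_zero_succ (g : Matrix (Fin m) (Fin m) F) (j : Fin m) : xsB g 0 j.succ = 0 := rfl
theorem xsB_succ_zero (g : Matrix (Fin m) (Fin m) F) (i : Fin m) : xsB g i.succ 0 = 0 := rfl
theorem xsB_succ_succ (g : Matrix (Fin m) (Fin m) F) (i j : Fin m) :
    xsB g i.succ j.succ = g i j := rfl

theorem xsB_det (g : Matrix (Fin m) (Fin m) F) : (xsB g).det = g.det := by
  rw [Matrix.det_succ_row_zero, Fin.sum_univ_succ]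
  have h1 : (xsB g).submatrix Fin.succ (Fin.succAbove 0) = g := by
    ext i j
    simp [Matrix.submatrix_apply, xsB_succ_succ]
  rw [h1, xsB_zero_zero]
  simp [xsB_zero_succ]

theorem xsB_mul_C (g : Matrix (Fin m) (Fin m) F) (a : Fin m → F) :
    xsB g * xsC a = xsC (g.mulVec a) := by
  ext i j
  simp only [Matrix.mul_apply, xsC_apply]
  by_cases hj : j = 0
  · simp only [hj, if_true]
    rw [Fin.sum_univ_succ]
    refine Fin.cases ?_ (fun i' => ?_) i
    · simp [xsB_zero_succ]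
    · simp [xsB_succ_succ, Matrix.mulVec, dotProduct]
  · simp [hj]

theorem xsC_mul_B (g : Matrix (Fin m) (Fin m) F) (c : Fin m → F) :
    xsC c * xsB g = xsC c := by
  ext i j
  simp only [Matrix.mul_apply, xsC_apply]
  rw [Finset.sum_eq_single 0]
  · refine Fin.cases ?_ (fun j' => ?_) j
    · simp [xsB_zero_zero]
    · simp [xsB_zero_succ, Fin.succ_ne_zero]
  · intro l _ hl; simp [hl]
  · simp

def xsBS (g : Matrix.SpecialLinearGroup (Fin m) F) : Matrix.SpecialLinearGroup (Fin (m + 1)) F :=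
  ⟨xsB g.1, by rw [xsB_det]; exact g.2⟩

theorem xsBS_conj (g : Matrix.SpecialLinearGroup (Fin m) F) (a : Fin m → F) :
    xsBS g * xsU a = xsU (g.1.mulVec a) * xsBS g := by
  apply Subtype.ext
  show xsB g.1 * (1 + xsC a) = (1 + xsC (g.1.mulVec a)) * xsB g.1
  rw [mul_add, add_mul, mul_one, one_mul, xsB_mul_C, xsC_mul_B]

theorem xsU_apply_succ_zero (a : Fin m → F) (i : Fin m) :
    ((xsU a : Matrix.SpecialLinearGroup (Fin (m + 1)) F) : Matrix (Fin (m + 1)) (Fin (m + 1)) F)
      i.succ 0 = a i := by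
  rw [xsU_coe, Matrix.add_apply, Matrix.one_apply_ne (Fin.succ_ne_zero i), xsC_apply]
  simp

theorem xsU_not_center (a : Fin m → F) (ha : a ≠ 0) :
    xsU a ∉ Subgroup.center (Matrix.SpecialLinearGroup (Fin (m + 1)) F) := by
  intro h
  rw [Matrix.SpecialLinearGroup.mem_center_iff] at h
  obtain ⟨r, -, hr⟩ := h
  apply ha
  funext i
  have h1 := xsU_apply_succ_zero a i
  rw [← hr] at h1
  rw [← h1]
  simp [Matrix.scalar_apply]

end Unip

section SLTrans

theorem xs_trans_family {F : Type*} [Field F] {n : ℕ} {ι : Type*} [Fintype ι]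
    (a b : ι → (Fin n → F)) (ha : LinearIndependent F a) (hb : LinearIndependent F b)
    (hcard : Fintype.card ι < n) :
    ∃ g : Matrix.SpecialLinearGroup (Fin n) F,
      ∀ i, (g : Matrix (Fin n) (Fin n) F).mulVec (a i) = b i := by
  classical
  let f : Submodule.span F (Set.range a) ≃ₗ[F] Submodule.span F (Set.range b) :=
    ha.linearCombinationEquiv.symm ≪≫ₗ hb.linearCombinationEquiv
  obtain ⟨g₀, hg₀⟩ := Submodule.exists_linearEquiv_restrict_eq f
  have hg₀a : ∀ i, g₀ (a i) = b i := by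
    intro i
    have hmem : a i ∈ Submodule.span F (Set.range a) :=
      Submodule.subset_span (Set.mem_range_self i)
    have h1 := hg₀ ⟨a i, hmem⟩
    have h2 : ha.repr ⟨a i, hmem⟩ = Finsupp.single i 1 :=
      ha.repr_eq_single i ⟨a i, hmem⟩ rfl
    have h3 : ((f ⟨a i, hmem⟩ : Submodule.span F (Set.range b)) : Fin n → F) = b i := by
      show ((hb.linearCombinationEquiv (ha.repr ⟨a i, hmem⟩) :
        Submodule.span F (Set.range b)) : Fin n → F) = b i
      rw [h2, LinearIndependent.linearCombinationEquiv_apply_coe,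
        Finsupp.linearCombination_single, one_smul]
    rw [← h3]
    exact h1.symm
  have hlt : Submodule.span F (Set.range b) < ⊤ := by
    rw [lt_top_iff_ne_top]
    intro htop
    have h1 : (Set.range b).finrank F ≤ Fintype.card ι := finrank_range_le_card b
    unfold Set.finrank at h1
    rw [htop, finrank_top, Module.finrank_fin_fun] at h1
    omega
  obtain ⟨φ, hφ0, hφker⟩ := Submodule.exists_le_ker_of_lt_top _ hlt
  have hφb : ∀ i, φ (b i) = 0 := fun i =>
    LinearMap.mem_ker.mp (hφker (Submodule.subset_span (Set.mem_range_self i)))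
  obtain ⟨u, hu⟩ : ∃ u, φ u ≠ 0 := by
    by_contra hcon
    refine hφ0 (LinearMap.ext fun x => ?_)
    by_contra hx
    exact hcon ⟨x, hx⟩
  have hd0 : LinearMap.det (g₀ : (Fin n → F) →ₗ[F] (Fin n → F)) ≠ 0 :=
    (LinearEquiv.isUnit_det' g₀).ne_zero
  obtain ⟨d, hd⟩ : ∃ d : F, d = LinearMap.det (g₀ : (Fin n → F) →ₗ[F] (Fin n → F)) := ⟨_, rfl⟩
  rw [← hd] at hd0
  have hφz : φ (((d⁻¹ - 1) * (φ u)⁻¹) • u) = d⁻¹ - 1 := by
    rw [map_smul, smul_eq_mul, mul_assoc, inv_mul_cancel₀ hu, mul_one]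
  have hLdet : LinearMap.det (LinearMap.transvection φ (((d⁻¹ - 1) * (φ u)⁻¹) • u) ∘ₗ
      (g₀ : (Fin n → F) →ₗ[F] (Fin n → F))) = 1 := by
    rw [LinearMap.det_comp, LinearMap.transvection.det, hφz, ← hd,
      show (1 : F) + (d⁻¹ - 1) = d⁻¹ by ring, inv_mul_cancel₀ hd0]
  have hMdet : (LinearMap.toMatrix' (LinearMap.transvection φ (((d⁻¹ - 1) * (φ u)⁻¹) • u) ∘ₗ
      (g₀ : (Fin n → F) →ₗ[F] (Fin n → F)))).det = 1 := by
    rw [LinearMap.det_toMatrix', hLdet]
  refine ⟨⟨_, hMdet⟩, fun i => ?_⟩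
  show (LinearMap.toMatrix' (LinearMap.transvection φ (((d⁻¹ - 1) * (φ u)⁻¹) • u) ∘ₗ
      (g₀ : (Fin n → F) →ₗ[F] (Fin n → F)))).mulVec (a i) = b i
  rw [LinearMap.toMatrix'_mulVec]
  show LinearMap.transvection φ (((d⁻¹ - 1) * (φ u)⁻¹) • u) (g₀ (a i)) = b i
  rw [hg₀a i, LinearMap.transvection.apply, hφb i, zero_smul, add_zero]

theorem xs_trans {F : Type*} [Field F] {m : ℕ} (hm : 2 ≤ m) (a b : Fin m → F)
    (ha : a ≠ 0) (hb : b ≠ 0) :
    ∃ g : Matrix.SpecialLinearGroup (Fin m) F, g.1.mulVec a = b := by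
  obtain ⟨g, hg⟩ := xs_trans_family (ι := Unit) (fun _ => a) (fun _ => b)
    (LinearIndependent.of_subsingleton () ha) (LinearIndependent.of_subsingleton () hb)
    (by simp; omega)
  exact ⟨g, hg ()⟩

end SLTrans


section Rep

noncomputable def xsW {L : Type*} [Field L] {V : Type*} [AddCommGroup V] [Module L V]
    {A : Type*} (f : A → Module.End L V) (χ : A → L) : Submodule L V :=
  ⨅ a, (f a).maxGenEigenspace (χ a)

theorem xs_joint {L : Type*} [Field L] [IsAlgClosed L] {V : Type*} [AddCommGroup V] [Module L V]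
    [FiniteDimensional L V] {A : Type*} [AddCommGroup A] (p : ℕ) (hpL : (p : L) ≠ 0)
    (hA : ∀ a : A, p • a = 0) (f : A → Module.End L V) (hadd : ∀ a b, f (a + b) = f a * f b)
    (h0 : f 0 = 1) :
    (iSupIndep (xsW f)) ∧ (⨆ χ : A → L, xsW f χ) = ⊤ ∧
    ∀ (χ : A → L) (v : V), v ∈ xsW f χ ↔ ∀ a, f a v = χ a • v := by
  have hcomm : ∀ a b, Commute (f a) (f b) := fun a b => by
    show f a * f b = f b * f a
    rw [← hadd, ← hadd, add_comm]
  have hpow : ∀ a (k : ℕ), f (k • a) = f a ^ k := by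
    intro a k
    induction k with
    | zero => simp [h0]
    | succ k ih => rw [succ_nsmul, hadd, ih, pow_succ]
  have hfp : ∀ a, f a ^ p = 1 := fun a => by rw [← hpow, hA, h0]
  have hss : ∀ a, (f a).IsSemisimple := by
    intro a
    have hsq : Squarefree (Polynomial.X ^ p - Polynomial.C (1 : L)) :=
      (Polynomial.separable_X_pow_sub_C (1 : L) hpL one_ne_zero).squarefree
    apply Module.End.isSemisimple_of_squarefree_aeval_eq_zero hsq
    simp [hfp a]
  refine ⟨?_, ?_, ?_⟩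
  · exact Module.End.independent_iInf_maxGenEigenspace_of_forall_mapsTo f
      (fun a b φ => Module.End.mapsTo_maxGenEigenspace_of_comm (hcomm b a) φ)
  · exact Module.End.iSup_iInf_maxGenEigenspace_eq_top_of_iSup_maxGenEigenspace_eq_top_of_commute f
      (fun a b _ => hcomm a b) (fun a => Module.End.iSup_maxGenEigenspace_eq_top (f a))
  · intro χ v
    unfold xsW
    rw [Submodule.mem_iInf]
    refine forall_congr' fun a => ?_
    rw [(hss a).isFinitelySemisimple.maxGenEigenspace_eq_eigenspace]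
    exact Module.End.mem_eigenspace_iff

variable {F : Type*} [Field F] {K : Type*} [Field K] {d m : ℕ}

noncomputable def xsPhi (ρ : Matrix.SpecialLinearGroup (Fin (m + 1)) F →* GL (Fin d) K)
    (g : Matrix.SpecialLinearGroup (Fin (m + 1)) F) :
    Module.End (AlgebraicClosure K) (Fin d → AlgebraicClosure K) :=
  Matrix.toLin' ((algebraMap K (AlgebraicClosure K)).mapMatrix (ρ g : Matrix (Fin d) (Fin d) K))

theorem xsPhi_mul (ρ : Matrix.SpecialLinearGroup (Fin (m + 1)) F →* GL (Fin d) K)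
    (g h : Matrix.SpecialLinearGroup (Fin (m + 1)) F) :
    xsPhi ρ (g * h) = xsPhi ρ g * xsPhi ρ h := by
  unfold xsPhi
  rw [map_mul, Units.val_mul, map_mul, Matrix.toLin'_mul]
  rfl

theorem xsPhi_one (ρ : Matrix.SpecialLinearGroup (Fin (m + 1)) F →* GL (Fin d) K) :
    xsPhi ρ 1 = 1 := by
  unfold xsPhi
  rw [map_one, Units.val_one, map_one, Matrix.toLin'_one]
  rfl

theorem xsPhi_eq_one (ρ : Matrix.SpecialLinearGroup (Fin (m + 1)) F →* GL (Fin d) K)
    (g : Matrix.SpecialLinearGroup (Fin (m + 1)) F) (h : xsPhi ρ g = 1) : ρ g = 1 := by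
  unfold xsPhi at h
  have h1 : (algebraMap K (AlgebraicClosure K)).mapMatrix (ρ g : Matrix (Fin d) (Fin d) K)
      = (algebraMap K (AlgebraicClosure K)).mapMatrix 1 := by
    apply Matrix.toLin'.injective
    rw [h, map_one, Matrix.toLin'_one]
    rfl
  apply Units.ext
  have hinj : Function.Injective
      ((algebraMap K (AlgebraicClosure K)).mapMatrix :
        Matrix (Fin d) (Fin d) K → Matrix (Fin d) (Fin d) (AlgebraicClosure K)) :=
    Matrix.map_injective (algebraMap K (AlgebraicClosure K)).injective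
  exact hinj h1

theorem xs_main [Fintype F] (hm : 2 ≤ m) (hK : ringChar K ≠ ringChar F)
    (ρ : Matrix.SpecialLinearGroup (Fin (m + 1)) F →* GL (Fin d) K)
    (hker : ρ.ker ≤ Subgroup.center (Matrix.SpecialLinearGroup (Fin (m + 1)) F)) :
    Fintype.card F ^ m - 1 ≤ d := by
  classical
  have hcp : CharP F (ringChar F) := ringChar.charP F
  have hp : (ringChar F).Prime := CharP.char_is_prime F (ringChar F)
  have hpK : ((ringChar F : ℕ) : K) ≠ 0 := by
    intro h
    have h1 : ringChar K ∣ ringChar F := ringChar.dvd h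
    rcases (Nat.dvd_prime hp).mp h1 with h2 | h2
    · have h3 : CharP K 1 := by rw [← h2]; exact ringChar.charP K
      exact CharP.char_ne_one K 1 rfl
    · exact hK h2
  have hpL : ((ringChar F : ℕ) : AlgebraicClosure K) ≠ 0 := by
    intro h
    apply hpK
    apply (algebraMap K (AlgebraicClosure K)).injective
    rw [map_natCast, h, map_zero]
  have hA : ∀ a : Fin m → F, ringChar F • a = 0 := by
    intro a
    funext i
    simp [CharP.cast_eq_zero]
  obtain ⟨hind, htop, heig⟩ := xs_joint (ringChar F) hpL hA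
    (fun a : Fin m → F => xsPhi ρ (xsU a))
    (fun a b => by rw [← xsU_mul, xsPhi_mul]) (by rw [xsU_zero, xsPhi_one])
  have hchar : ∀ χ : (Fin m → F) → AlgebraicClosure K,
      xsW (fun a : Fin m → F => xsPhi ρ (xsU a)) χ ≠ ⊥ →
      (∀ a b, χ (a + b) = χ a * χ b) ∧ χ 0 = 1 := by
    intro χ hχ
    obtain ⟨v, hv, hv0⟩ := (Submodule.ne_bot_iff _).mp hχ
    have hv' := (heig χ v).mp hv
    constructor
    · intro a b
      have h1 := hv' (a + b)
      rw [← xsU_mul, xsPhi_mul, Module.End.mul_apply] at h1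
      have hb := hv' b
      have ha := hv' a
      rw [hb, map_smul, ha, smul_smul] at h1
      have h2 : (χ b * χ a - χ (a + b)) • v = 0 := by rw [sub_smul, h1, sub_self]
      rcases smul_eq_zero.mp h2 with h3 | h3
      · rw [mul_comm]; exact (sub_eq_zero.mp h3).symm
      · exact absurd h3 hv0
    · have h1 := hv' 0
      rw [xsU_zero, xsPhi_one, Module.End.one_apply] at h1
      have h2 : (1 - χ 0) • v = 0 := by rw [sub_smul, one_smul, ← h1, sub_self]
      rcases smul_eq_zero.mp h2 with h3 | h3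
      · exact (sub_eq_zero.mp h3).symm
      · exact absurd h3 hv0
  have hinv : ∀ (g : Matrix.SpecialLinearGroup (Fin m) F)
      (χ : (Fin m → F) → AlgebraicClosure K),
      xsW (fun a : Fin m → F => xsPhi ρ (xsU a)) χ ≠ ⊥ →
      xsW (fun a : Fin m → F => xsPhi ρ (xsU a)) (fun b => χ (g.1.mulVec b)) ≠ ⊥ := by
    intro g χ hχ
    obtain ⟨v, hv, hv0⟩ := (Submodule.ne_bot_iff _).mp hχ
    have hv' := (heig χ v).mp hv
    rw [Submodule.ne_bot_iff]
    refine ⟨xsPhi ρ (xsBS g)⁻¹ v, ?_, ?_⟩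
    · rw [heig]
      intro b
      show xsPhi ρ (xsU b) (xsPhi ρ (xsBS g)⁻¹ v) = χ (g.1.mulVec b) • xsPhi ρ (xsBS g)⁻¹ v
      have hc : xsU b * (xsBS g)⁻¹ = (xsBS g)⁻¹ * xsU (g.1.mulVec b) := by
        rw [eq_inv_mul_iff_mul_eq, ← mul_assoc, xsBS_conj, mul_assoc, mul_inv_cancel, mul_one]
      have h1 := hv' (g.1.mulVec b)
      rw [← Module.End.mul_apply, ← xsPhi_mul, hc, xsPhi_mul, Module.End.mul_apply, h1, map_smul]
    · intro h0
      apply hv0
      have h1 : xsPhi ρ (xsBS g) (xsPhi ρ (xsBS g)⁻¹ v) = v := by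
        rw [← Module.End.mul_apply, ← xsPhi_mul, mul_inv_cancel, xsPhi_one, Module.End.one_apply]
      rw [← h1, h0, map_zero]
  have hfinW : Fintype {χ // xsW (fun a : Fin m → F => xsPhi ρ (xsU a)) χ ≠ ⊥} :=
    hind.fintypeNeBotOfFiniteDimensional
  have hcardW : Fintype.card {χ // xsW (fun a : Fin m → F => xsPhi ρ (xsU a)) χ ≠ ⊥} ≤ d := by
    have h1 := hind.subtype_ne_bot_le_finrank
    rw [Module.finrank_fin_fun] at h1
    exact h1
  obtain ⟨S, hSdef⟩ : ∃ S : Finset ((Fin m → F) → AlgebraicClosure K),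
      S = ((Finset.univ : Finset {χ // xsW (fun a : Fin m → F => xsPhi ρ (xsU a)) χ ≠ ⊥}).map
        ⟨Subtype.val, Subtype.val_injective⟩).filter (fun χ => ∃ b, χ b ≠ 1) := ⟨_, rfl⟩
  have hSmem : ∀ χ, χ ∈ S ↔
      xsW (fun a : Fin m → F => xsPhi ρ (xsU a)) χ ≠ ⊥ ∧ ∃ b, χ b ≠ 1 := by
    intro χ
    rw [hSdef]
    simp
  have hScard : S.card ≤ d := by
    rw [hSdef]
    refine le_trans (Finset.card_filter_le _ _) ?_
    rw [Finset.card_map, Finset.card_univ]
    exact hcardW
  have hSne : S.Nonempty := by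
    by_contra hne
    rw [Finset.not_nonempty_iff_eq_empty] at hne
    have h1 : ∀ χ : (Fin m → F) → AlgebraicClosure K,
        xsW (fun a : Fin m → F => xsPhi ρ (xsU a)) χ ≠ ⊥ → χ = fun _ => 1 := by
      intro χ hχ
      by_contra hc
      have hex : ∃ b, χ b ≠ 1 := by
        by_contra hb
        push Not at hb
        exact hc (funext hb)
      have hmem : χ ∈ S := (hSmem χ).mpr ⟨hχ, hex⟩
      rw [hne] at hmem
      exact absurd hmem (Finset.notMem_empty _)
    have h2 : xsW (fun a : Fin m → F => xsPhi ρ (xsU a)) (fun _ => (1 : AlgebraicClosure K)) = ⊤ := by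
      rw [eq_top_iff, ← htop]
      apply iSup_le
      intro χ
      by_cases hχ : xsW (fun a : Fin m → F => xsPhi ρ (xsU a)) χ = ⊥
      · rw [hχ]; exact bot_le
      · rw [h1 χ hχ]
    have ha : (fun _ => 1 : Fin m → F) ≠ 0 := by
      intro h
      have h3 := congrFun h ⟨0, by omega⟩
      simp at h3
    have h3 : xsPhi ρ (xsU (fun _ => 1 : Fin m → F)) = 1 := by
      apply LinearMap.ext
      intro v
      have hv : v ∈ xsW (fun a : Fin m → F => xsPhi ρ (xsU a)) (fun _ => (1 : AlgebraicClosure K)) := by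
        rw [h2]; trivial
      have h4 := (heig (fun _ => 1) v).mp hv (fun _ => 1)
      rw [h4, one_smul]
      rfl
    have h4 : xsU (fun _ => 1 : Fin m → F) ∈ ρ.ker := MonoidHom.mem_ker.mpr (xsPhi_eq_one ρ _ h3)
    exact xsU_not_center _ ha (hker h4)
  have hfinal := xs_count (A := Fin m → F) (L := AlgebraicClosure K) (ringChar F) hp hA S hSne
    (fun χ hχ => (hchar χ ((hSmem χ).mp hχ).1).1) (fun χ hχ => (hchar χ ((hSmem χ).mp hχ).1).2)
    (fun χ hχ => ((hSmem χ).mp hχ).2)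
    (by
      intro a b ha hb
      obtain ⟨g, hg⟩ := xs_trans hm a b ha hb
      refine ⟨⟨fun v => g.1.mulVec v, fun v => (g⁻¹).1.mulVec v, ?_, ?_⟩, hg, ?_⟩
      · intro v
        show (g⁻¹).1.mulVec (g.1.mulVec v) = v
        rw [Matrix.mulVec_mulVec, ← Matrix.SpecialLinearGroup.coe_mul, inv_mul_cancel,
          Matrix.SpecialLinearGroup.coe_one, Matrix.one_mulVec]
      · intro v
        show g.1.mulVec ((g⁻¹).1.mulVec v) = v
        rw [Matrix.mulVec_mulVec, ← Matrix.SpecialLinearGroup.coe_mul, mul_inv_cancel,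
          Matrix.SpecialLinearGroup.coe_one, Matrix.one_mulVec]
      · intro χ hχ
        rw [hSmem] at hχ
        rw [hSmem]
        refine ⟨hinv g χ hχ.1, ?_⟩
        obtain ⟨c, hc⟩ := hχ.2
        refine ⟨(g⁻¹).1.mulVec c, ?_⟩
        show χ (g.1.mulVec ((g⁻¹).1.mulVec c)) ≠ 1
        rw [Matrix.mulVec_mulVec, ← Matrix.SpecialLinearGroup.coe_mul, mul_inv_cancel,
          Matrix.SpecialLinearGroup.coe_one, Matrix.one_mulVec]
        exact hc)
  have hcardA : Fintype.card (Fin m → F) = Fintype.card F ^ m := by simp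
  rw [hcardA] at hfinal
  exact le_trans hfinal hScard

end Rep

end Cfsg.Agent.Helper7
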