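import Mathlib
import Cfsg.Prelude.Def_JordanBlocks

set_option autoImplicit false

namespace Cfsg.Agent.Helper7

open Matrix

/-- the `k`-fold shift matrix on the index type of a Jordan type -/
def jshift {t : ℕ} (d : Fin t → ℕ) (F : Type*) [Field F] (k : ℕ) :
    Matrix ((i : Fin t) × Fin (d i)) ((i : Fin t) × Fin (d i)) F :=
  Matrix.of fun x y => if x.1 = y.1 ∧ (x.2 : ℕ) = (y.2 : ℕ) + k then 1 else 0

theorem jshift_apply {t : ℕ} (d : Fin t → ℕ) (F : Type*) [Field F] (k : ℕ)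
    (x y : (i : Fin t) × Fin (d i)) :
    jshift d F k x y = if x.1 = y.1 ∧ (x.2 : ℕ) = (y.2 : ℕ) + k then 1 else 0 := rfl

theorem jsig_ext {t : ℕ} (d : Fin t → ℕ) (x y : (i : Fin t) × Fin (d i))
    (h1 : x.1 = y.1) (h2 : (x.2 : ℕ) = (y.2 : ℕ)) : x = y := by
  obtain ⟨i, a⟩ := x
  obtain ⟨j, b⟩ := y
  simp only at h1 h2
  subst h1
  have : a = b := Fin.ext h2
  rw [this]

theorem jsig_iff {t : ℕ} (d : Fin t → ℕ) (x y : (i : Fin t) × Fin (d i)) :
    x = y ↔ (x.1 = y.1 ∧ (x.2 : ℕ) = (y.2 : ℕ)) := by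
  constructor
  · rintro rfl; exact ⟨rfl, rfl⟩
  · rintro ⟨h1, h2⟩; exact jsig_ext d x y h1 h2

theorem jsig_lt {t : ℕ} (d : Fin t → ℕ) (x y : (i : Fin t) × Fin (d i)) (h1 : x.1 = y.1) :
    (x.2 : ℕ) < d y.1 := by
  have := x.2.isLt
  have hd : d x.1 = d y.1 := congrArg d h1
  omega

theorem jshift_zero {t : ℕ} (d : Fin t → ℕ) (F : Type*) [Field F] :
    jshift d F 0 = 1 := by
  ext x y
  rw [jshift_apply, Matrix.one_apply, add_zero]
  by_cases h : x = y
  · rw [if_pos h, if_pos ((jsig_iff d x y).mp h)]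
  · rw [if_neg h, if_neg (fun h' => h ((jsig_iff d x y).mpr h'))]

theorem jshift_one_eq {t : ℕ} (d : Fin t → ℕ) (F : Type*) [Field F] :
    Cfsg.jordanTypeMatrix d F - 1 = jshift d F 1 := by
  ext ⟨i, a⟩ ⟨j, b⟩
  rw [Matrix.sub_apply, jshift_apply, Cfsg.jordanTypeMatrix]
  by_cases h : i = j
  · subst h
    rw [Matrix.blockDiagonal'_apply_eq, Matrix.one_apply]
    simp only [Cfsg.jordanBlock, Matrix.of_apply, true_and]
    by_cases hab : a = b
    · subst hab; simp
    · have h1 : (a : ℕ) ≠ b := fun h' => hab (Fin.ext h')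
      have hne : (⟨i, a⟩ : (i : Fin t) × Fin (d i)) ≠ ⟨i, b⟩ := by
        intro h'
        exact h1 ((jsig_iff d _ _).mp h').2
      rw [if_neg h1, if_neg hne, sub_zero]
  · rw [Matrix.blockDiagonal'_apply_ne _ _ _ h,
      Matrix.one_apply_ne (by intro h'; exact h (congrArg Sigma.fst h'))]
    simp [h]

theorem jshift_mul_one {t : ℕ} (d : Fin t → ℕ) (F : Type*) [Field F] (k : ℕ) :
    jshift d F k * jshift d F 1 = jshift d F (k + 1) := by
  ext x y
  rw [Matrix.mul_apply]
  simp only [jshift_apply]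
  by_cases hy : (y.2 : ℕ) + 1 < d y.1
  · rw [Finset.sum_eq_single (⟨y.1, ⟨(y.2 : ℕ) + 1, hy⟩⟩ : (i : Fin t) × Fin (d i))]
    · simp only [and_self, if_true, mul_one, add_assoc, add_comm 1 k]
    · intro z _ hz
      have : ¬ (z.1 = y.1 ∧ (z.2 : ℕ) = (y.2 : ℕ) + 1) := by
        rintro ⟨h1, h2⟩
        exact hz (jsig_ext d _ _ h1 h2)
      rw [if_neg this, mul_zero]
    · intro h; exact absurd (Finset.mem_univ _) h
  · rw [Finset.sum_eq_zero]
    · have : ¬ (x.1 = y.1 ∧ (x.2 : ℕ) = (y.2 : ℕ) + (k + 1)) := by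
        rintro ⟨h1, h2⟩
        have := jsig_lt d x y h1
        omega
      rw [if_neg this]
    · intro z _
      have : ¬ (z.1 = y.1 ∧ (z.2 : ℕ) = (y.2 : ℕ) + 1) := by
        rintro ⟨h1, h2⟩
        have := jsig_lt d z y h1
        omega
      rw [if_neg this, mul_zero]

theorem jshift_pow {t : ℕ} (d : Fin t → ℕ) (F : Type*) [Field F] (k : ℕ) :
    (Cfsg.jordanTypeMatrix d F - 1) ^ k = jshift d F k := by
  induction k with
  | zero => rw [pow_zero, jshift_zero]
  | succ k ih => rw [pow_succ, ih, jshift_one_eq, jshift_mul_one]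

/-- the weight: `1` at the columns of the shift that are nonzero -/
def jwt {t : ℕ} (d : Fin t → ℕ) (F : Type*) [Field F] (k : ℕ) :
    ((i : Fin t) × Fin (d i)) → F :=
  fun y => if (y.2 : ℕ) + k < d y.1 then 1 else 0

theorem jshift_gram {t : ℕ} (d : Fin t → ℕ) (F : Type*) [Field F] (k : ℕ) :
    (jshift d F k)ᵀ * jshift d F k = Matrix.diagonal (jwt d F k) := by
  ext y y'
  rw [Matrix.mul_apply, Matrix.diagonal_apply]
  simp only [Matrix.transpose_apply, jshift_apply, jwt]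
  by_cases hy : (y.2 : ℕ) + k < d y.1
  · rw [Finset.sum_eq_single (⟨y.1, ⟨(y.2 : ℕ) + k, hy⟩⟩ : (i : Fin t) × Fin (d i))]
    · simp only [and_self, if_true, one_mul, if_pos hy]
      by_cases hyy : y = y'
      · subst hyy; simp
      · rw [if_neg hyy, if_neg]
        rintro ⟨h1, h2⟩
        exact hyy (jsig_ext d _ _ h1 (by omega))
    · intro z _ hz
      have : ¬ (z.1 = y.1 ∧ (z.2 : ℕ) = (y.2 : ℕ) + k) := by
        rintro ⟨h1, h2⟩
        exact hz (jsig_ext d _ _ h1 h2)
      rw [if_neg this, zero_mul]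
    · intro h; exact absurd (Finset.mem_univ _) h
  · rw [Finset.sum_eq_zero]
    · rw [if_neg hy]; simp
    · intro z _
      have : ¬ (z.1 = y.1 ∧ (z.2 : ℕ) = (y.2 : ℕ) + k) := by
        rintro ⟨h1, h2⟩
        have := jsig_lt d z y h1
        omega
      rw [if_neg this, zero_mul]

theorem jshift_mul_diag {t : ℕ} (d : Fin t → ℕ) (F : Type*) [Field F] (k : ℕ) :
    jshift d F k * Matrix.diagonal (jwt d F k) = jshift d F k := by
  ext x y
  rw [Matrix.mul_diagonal, jshift_apply, jwt]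
  by_cases h : x.1 = y.1 ∧ (x.2 : ℕ) = (y.2 : ℕ) + k
  · have hy : (y.2 : ℕ) + k < d y.1 := by
      have := jsig_lt d x y h.1
      omega
    rw [if_pos h, if_pos hy, mul_one]
  · rw [if_neg h, zero_mul]

theorem jshift_rank {t : ℕ} (d : Fin t → ℕ) (F : Type*) [Field F] (k : ℕ) :
    (jshift d F k).rank = (Matrix.diagonal (jwt d F k)).rank := by
  apply le_antisymm
  · have := Matrix.rank_mul_le_right (jshift d F k) (Matrix.diagonal (jwt d F k))
    rwa [jshift_mul_diag] at this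
  · have := Matrix.rank_mul_le_right ((jshift d F k)ᵀ) (jshift d F k)
    rwa [jshift_gram] at this

theorem jcount_fin (m k : ℕ) :
    (∑ b : Fin m, if (b : ℕ) + k < m then 1 else 0) = m - k := by
  rw [Fin.sum_univ_eq_sum_range (fun b => if b + k < m then 1 else 0) m, ← Finset.card_filter]
  have : (Finset.range m).filter (fun b => b + k < m) = Finset.range (m - k) := by
    ext b
    simp only [Finset.mem_filter, Finset.mem_range]
    omega
  rw [this, Finset.card_range]

theorem jordanType_rank {F : Type*} [Field F] {t : ℕ} (d : Fin t → ℕ) (k : ℕ) :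
    ((Cfsg.jordanTypeMatrix d F - 1) ^ k).rank = ∑ i, (d i - k) := by
  classical
  rw [jshift_pow, jshift_rank, Matrix.rank_diagonal, Fintype.card_subtype, Finset.card_filter,
    Fintype.sum_sigma]
  apply Finset.sum_congr rfl
  intro i _
  rw [← jcount_fin (d i) k]
  apply Finset.sum_congr rfl
  intro b _
  simp only [jwt]
  by_cases h : (b : ℕ) + k < d i
  · simp [h]
  · simp [h]

end Cfsg.Agent.Helper7
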