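import Mathlib
import Cfsg.Agent.Helper11.JordOrth
import Cfsg.Agent.Helper21.BlockRank

set_option autoImplicit false

namespace Cfsg.Agent.Helper7

open Matrix

theorem jo7_fromBlocks_pow {F : Type*} [Field F] {m n : Type*} [Fintype m] [Fintype n]
    [DecidableEq m] [DecidableEq n] (X : Matrix m m F) (Y : Matrix n n F) (k : ℕ) :
    (Matrix.fromBlocks X 0 0 Y) ^ k = Matrix.fromBlocks (X ^ k) 0 0 (Y ^ k) := by
  induction k with
  | zero => rw [pow_zero, pow_zero, pow_zero, Matrix.fromBlocks_one]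
  | succ k ih =>
    rw [pow_succ, ih, Matrix.fromBlocks_multiply, pow_succ, pow_succ]
    simp

theorem pair_block_form {F : Type*} [Field F] (d : ℕ) :
    ∃ A M : Matrix (Fin d ⊕ Fin d) (Fin d ⊕ Fin d) F, Mᵀ = M ∧ M.det ≠ 0 ∧ Aᵀ * M * A = M ∧
      ∀ k, ((A - 1) ^ k).rank = (d - k) + (d - k) := by
  classical
  obtain ⟨N, hN⟩ : ∃ N : Matrix (Fin d) (Fin d) F, N = Helper11.joS F d 1 := ⟨_, rfl⟩
  have hNnil : IsNilpotent N :=
    ⟨d, by rw [hN, Helper11.joS_pow, Helper11.joS_eq_zero d d le_rfl]⟩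
  obtain ⟨J, hJ⟩ : ∃ J : Matrix (Fin d) (Fin d) F, J = 1 + N := ⟨_, rfl⟩
  have hJu : IsUnit J := by rw [hJ]; exact hNnil.isUnit_one_add
  have hJdet : IsUnit J.det := (Matrix.isUnit_iff_isUnit_det J).mp hJu
  obtain ⟨Ji, hJi⟩ : ∃ Ji : Matrix (Fin d) (Fin d) F, Ji = J⁻¹ := ⟨_, rfl⟩
  have h1 : J * Ji = 1 := by rw [hJi]; exact Matrix.mul_nonsing_inv J hJdet
  have h2 : Ji * J = 1 := by rw [hJi]; exact Matrix.nonsing_inv_mul J hJdet
  have hJ1 : J - 1 = N := by rw [hJ]; abel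
  refine ⟨Matrix.fromBlocks J 0 0 Jiᵀ, Matrix.fromBlocks 0 1 1 0, ?_, ?_, ?_, ?_⟩
  · rw [Matrix.fromBlocks_transpose]; simp
  · intro h0
    have hsq : (Matrix.fromBlocks (0 : Matrix (Fin d) (Fin d) F) (1 : Matrix (Fin d) (Fin d) F)
        (1 : Matrix (Fin d) (Fin d) F) (0 : Matrix (Fin d) (Fin d) F)) *
        (Matrix.fromBlocks (0 : Matrix (Fin d) (Fin d) F) (1 : Matrix (Fin d) (Fin d) F)
        (1 : Matrix (Fin d) (Fin d) F) (0 : Matrix (Fin d) (Fin d) F)) = 1 := by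
      rw [Matrix.fromBlocks_multiply]; simp [Matrix.fromBlocks_one]
    have := congrArg Matrix.det hsq
    rw [Matrix.det_mul, h0, mul_zero, Matrix.det_one] at this
    exact zero_ne_one this
  · rw [Matrix.fromBlocks_transpose, Matrix.fromBlocks_multiply, Matrix.fromBlocks_multiply]
    simp only [Matrix.transpose_zero, Matrix.transpose_transpose, Matrix.mul_zero,
      Matrix.zero_mul, Matrix.mul_one, zero_add, add_zero]
    rw [h2, ← Matrix.transpose_mul, h2, Matrix.transpose_one]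
  · intro k
    have hA1 : Matrix.fromBlocks J 0 0 Jiᵀ - 1 = Matrix.fromBlocks (J - 1) 0 0 (Jiᵀ - 1) := by
      apply sub_eq_of_eq_add
      rw [← Matrix.fromBlocks_one (l := Fin d) (m := Fin d) (α := F), Matrix.fromBlocks_add]
      simp
    rw [hA1, jo7_fromBlocks_pow, Helper21.br21_rank_fromBlocks, hJ1, hN, Helper11.joS_pow,
      Helper11.joS_rank]
    congr 1
    have hT : (Jiᵀ - 1) ^ k = (((-Ji) ^ k) * Helper11.joS F d k)ᵀ := by
      have e1 : Jiᵀ - 1 = (Ji - 1)ᵀ := by rw [Matrix.transpose_sub, Matrix.transpose_one]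
      have e2 : Ji - 1 = (-Ji) * N := by
        rw [← hJ1, Matrix.mul_sub, Matrix.neg_mul, h2, mul_one]; abel
      have hc : Commute (-Ji) N := by
        have hcJ : Commute Ji J := by rw [Commute, SemiconjBy, h2, h1]
        have : Commute Ji N := by rw [← hJ1]; exact hcJ.sub_right (Commute.one_right _)
        exact this.neg_left
      rw [e1, ← Matrix.transpose_pow, e2, hc.mul_pow, hN, Helper11.joS_pow]
    rw [hT, Matrix.rank_transpose, Matrix.rank_mul_eq_right_of_isUnit_det _ _ ?_,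
      Helper11.joS_rank]
    rw [Matrix.det_pow]
    apply IsUnit.pow
    rw [Matrix.det_neg]
    apply IsUnit.mul
    · exact (isUnit_one.neg : IsUnit (-1 : F)).pow _
    · have : Ji.det * J.det = 1 := by rw [← Matrix.det_mul, h2, Matrix.det_one]
      exact IsUnit.of_mul_eq_one _ this

end Cfsg.Agent.Helper7
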