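import Mathlib
import Cfsg.Agent.Helper15.SympBasis

set_option autoImplicit false

namespace Cfsg.Agent.Helper7

open Matrix

theorem jsymp_conj_pow {F : Type*} [Field F] {n : Type*} [Fintype n] [DecidableEq n]
    (C C' X : Matrix n n F) (h : C' * C = 1) (k : ℕ) :
    (C * X * C') ^ k = C * X ^ k * C' → (C * X * C') ^ (k + 1) = C * X ^ (k + 1) * C' := by
  intro ih
  rw [pow_succ, ih, pow_succ]
  calc C * X ^ k * C' * (C * X * C') = C * X ^ k * (C' * C) * X * C' := by
        simp only [Matrix.mul_assoc]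
    _ = C * (X ^ k * X) * C' := by rw [h, Matrix.mul_one]; simp only [Matrix.mul_assoc]

theorem alt_to_symp {F : Type*} [Field F] {m : ℕ}
    (A M : Matrix (Fin m ⊕ Fin m) (Fin m ⊕ Fin m) F) (halt : ∀ v, v ⬝ᵥ M *ᵥ v = 0)
    (hdet : M.det ≠ 0) (hA : Aᵀ * M * A = M) :
    ∃ B : Matrix.symplecticGroup (Fin m) F, ∀ k,
      (((B : Matrix (Fin m ⊕ Fin m) (Fin m ⊕ Fin m) F) - 1) ^ k).rank = ((A - 1) ^ k).rank := by
  classical
  have hnd : ∀ x : Fin m ⊕ Fin m → F, (∀ y, Matrix.toBilin' M x y = 0) → x = 0 := by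
    intro x hx
    apply Matrix.eq_zero_of_vecMul_eq_zero hdet
    apply dotProduct_eq_zero
    intro y
    have := hx y
    rw [Matrix.toBilin'_apply', Matrix.dotProduct_mulVec] at this
    exact this
  have hV : Module.finrank F (Fin m ⊕ Fin m → F) = 2 * m := by
    rw [Module.finrank_fintype_fun_eq_card, Fintype.card_sum, Fintype.card_fin, two_mul]
  obtain ⟨e, he⟩ := Cfsg.Agent.Helper15.exists_symp_equiv (Matrix.toBilin' M)
    (fun x => by rw [Matrix.toBilin'_apply']; exact halt x) hnd hV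
  obtain ⟨C, hC⟩ : ∃ C : Matrix (Fin m ⊕ Fin m) (Fin m ⊕ Fin m) F,
      C = LinearMap.toMatrix' e.toLinearMap := ⟨_, rfl⟩
  obtain ⟨C', hC'⟩ : ∃ C' : Matrix (Fin m ⊕ Fin m) (Fin m ⊕ Fin m) F,
      C' = LinearMap.toMatrix' e.symm.toLinearMap := ⟨_, rfl⟩
  have hCC' : C * C' = 1 := by
    rw [hC, hC', ← LinearMap.toMatrix'_comp]
    have : e.toLinearMap.comp e.symm.toLinearMap = LinearMap.id := by
      ext x; simp
    rw [this, LinearMap.toMatrix'_id]
  have hC'C : C' * C = 1 := by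
    rw [hC, hC', ← LinearMap.toMatrix'_comp]
    have : e.symm.toLinearMap.comp e.toLinearMap = LinearMap.id := by
      ext x; simp
    rw [this, LinearMap.toMatrix'_id]
  have hCv : ∀ v, C *ᵥ v = e v := by
    intro v
    rw [hC, LinearMap.toMatrix'_mulVec]
    rfl
  have hM : M = Cᵀ * Matrix.J (Fin m) F * C := by
    apply Matrix.toBilin'.injective
    refine LinearMap.ext (fun v => LinearMap.ext (fun w => ?_))
    have he' : v ⬝ᵥ M *ᵥ w = e v ⬝ᵥ Matrix.J (Fin m) F *ᵥ e w := by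
      rw [← Matrix.toBilin'_apply']; exact he v w
    rw [Matrix.toBilin'_apply', Matrix.toBilin'_apply', he', ← hCv v, ← hCv w,
      ← Matrix.mulVec_mulVec, ← Matrix.mulVec_mulVec, Matrix.dotProduct_mulVec v Cᵀ,
      Matrix.vecMul_transpose]
  have hCdet : IsUnit C.det := by
    have : C.det * C'.det = 1 := by rw [← Matrix.det_mul, hCC', Matrix.det_one]
    exact IsUnit.of_mul_eq_one _ this
  have hC'det : IsUnit C'.det := by
    have : C'.det * C.det = 1 := by rw [← Matrix.det_mul, hC'C, Matrix.det_one]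
    exact IsUnit.of_mul_eq_one _ this
  have hC'tCt : C'ᵀ * Cᵀ = 1 := by
    rw [← Matrix.transpose_mul, hCC', Matrix.transpose_one]
  have hB : C * A * C' ∈ Matrix.symplecticGroup (Fin m) F := by
    rw [SymplecticGroup.mem_iff']
    calc (C * A * C')ᵀ * Matrix.J (Fin m) F * (C * A * C')
        = C'ᵀ * (Aᵀ * (Cᵀ * Matrix.J (Fin m) F * C) * A) * C' := by
          rw [Matrix.transpose_mul, Matrix.transpose_mul]
          simp only [Matrix.mul_assoc]
      _ = C'ᵀ * (Cᵀ * Matrix.J (Fin m) F * C) * C' := by rw [← hM, hA]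
      _ = (C'ᵀ * Cᵀ) * Matrix.J (Fin m) F * (C * C') := by simp only [Matrix.mul_assoc]
      _ = Matrix.J (Fin m) F := by rw [hC'tCt, hCC', Matrix.one_mul, Matrix.mul_one]
  refine ⟨⟨C * A * C', hB⟩, ?_⟩
  intro k
  have h1 : C * A * C' - 1 = C * (A - 1) * C' := by
    rw [Matrix.mul_sub, Matrix.sub_mul, Matrix.mul_one, hCC']
  have h2 : ∀ k : ℕ, (C * (A - 1) * C') ^ k = C * (A - 1) ^ k * C' := by
    intro k
    induction k with
    | zero => rw [pow_zero, pow_zero, Matrix.mul_one, hCC']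
    | succ k ih => exact jsymp_conj_pow C C' (A - 1) hC'C k ih
  show ((C * A * C' - 1) ^ k).rank = ((A - 1) ^ k).rank
  rw [h1, h2 k, Matrix.rank_mul_eq_left_of_isUnit_det C' _ hC'det,
    Matrix.rank_mul_eq_right_of_isUnit_det C _ hCdet]

end Cfsg.Agent.Helper7
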