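import Mathlib

set_option autoImplicit false

namespace Cfsg.Agent.Helper7

theorem nalt_pair_comm {α : Type} [DecidableEq α] (x : Equiv.Perm α)
    (hxx : ∀ a, x (x a) = a) (a b : α) :
    Equiv.swap a (x a) * Equiv.swap b (x b) = Equiv.swap b (x b) * Equiv.swap a (x a) := by
  by_cases ha : x a = a
  · rw [ha, Equiv.swap_self]
    rfl
  by_cases hb : x b = b
  · rw [hb, Equiv.swap_self]
    rfl
  by_cases hba : b = a
  · rw [hba]
  by_cases hbxa : b = x a
  · rw [hbxa, hxx a, Equiv.swap_comm (x a) a]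
  have h1 : x b ≠ a := by
    intro h
    apply hbxa
    rw [← h, hxx]
  have h2 : x b ≠ x a := by
    intro h
    exact hba (x.injective h)
  have hnd : [a, x a, b, x b].Nodup := by
    have e1 : a ≠ x a := fun h => ha h.symm
    have e2 : a ≠ b := fun h => hba h.symm
    have e3 : a ≠ x b := fun h => h1 h.symm
    have e4 : x a ≠ b := fun h => hbxa h.symm
    have e5 : x a ≠ x b := fun h => h2 h.symm
    have e6 : b ≠ x b := fun h => hb h.symm
    simp [e1, e2, e3, e4, e5, e6]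
  exact (Equiv.Perm.disjoint_swap_swap hnd).commute.eq

theorem exists_odd_perm_commuting {α : Type} [Fintype α] [DecidableEq α]
    (Q : Subgroup (Equiv.Perm α)) (hQ : Odd (Nat.card Q)) (x : Equiv.Perm α) (hx1 : x ≠ 1)
    (hx2 : x * x = 1) (hxQ : ∀ q ∈ Q, x * q = q * x) :
    ∃ t : Equiv.Perm α, (∀ q ∈ Q, t * q = q * t) ∧ Equiv.Perm.sign t = -1 := by
  classical
  have hxx : ∀ a, x (x a) = a := fun a => by
    have h := congrArg (fun f : Equiv.Perm α => f a) hx2
    simpa using h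
  have hxq : ∀ q ∈ Q, ∀ a, q (x a) = x (q a) := fun q hq a => by
    have h := congrArg (fun f : Equiv.Perm α => f a) (hxQ q hq)
    simpa using h.symm
  obtain ⟨w, hw⟩ : ∃ w, x w ≠ w := by
    by_contra h
    push Not at h
    exact hx1 (Equiv.ext h)
  obtain ⟨K, hKdef⟩ : ∃ K : Set (Equiv.Perm α),
      K = Set.range (fun a => Equiv.swap a (x a)) := ⟨_, rfl⟩
  have hKmem : ∀ a, Equiv.swap a (x a) ∈ K := fun a => by
    rw [hKdef]
    exact ⟨a, rfl⟩
  have hK : ∀ s ∈ K, ∀ s' ∈ K, s * s' = s' * s := by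
    intro s hs s' hs'
    rw [hKdef] at hs hs'
    obtain ⟨a, rfl⟩ := hs
    obtain ⟨b, rfl⟩ := hs'
    exact nalt_pair_comm x hxx a b
  letI : CommGroup (Subgroup.closure K) := Subgroup.closureCommGroupOfComm hK
  haveI : Fintype Q := Fintype.ofFinite Q
  obtain ⟨τ, hτdef⟩ : ∃ τ : Q → Subgroup.closure K, ∀ q : Q,
      (τ q : Equiv.Perm α) = Equiv.swap ((q : Equiv.Perm α) w) (x ((q : Equiv.Perm α) w)) :=
    ⟨fun q => ⟨Equiv.swap ((q : Equiv.Perm α) w) (x ((q : Equiv.Perm α) w)),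
      Subgroup.subset_closure (hKmem _)⟩, fun q => rfl⟩
  refine ⟨((∏ q : Q, τ q : Subgroup.closure K) : Equiv.Perm α), ?_, ?_⟩
  · intro q₀ hq₀
    have hinv : ∀ y ∈ Subgroup.closure K, q₀ * y * q₀⁻¹ ∈ Subgroup.closure K := by
      intro y hy
      induction hy using Subgroup.closure_induction with
      | mem y hy =>
        rw [hKdef] at hy
        obtain ⟨a, rfl⟩ := hy
        apply Subgroup.subset_closure
        have e : q₀ * Equiv.swap a (x a) * q₀⁻¹ = Equiv.swap (q₀ a) (x (q₀ a)) := by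
          rw [← hxq q₀ hq₀ a, Equiv.swap_apply_apply]
        rw [e]
        exact hKmem _
      | one => simp
      | mul y z _ _ hy hz =>
        have e : q₀ * (y * z) * q₀⁻¹ = (q₀ * y * q₀⁻¹) * (q₀ * z * q₀⁻¹) := by group
        rw [e]
        exact Subgroup.mul_mem _ hy hz
      | inv y _ hy =>
        have e : q₀ * y⁻¹ * q₀⁻¹ = (q₀ * y * q₀⁻¹)⁻¹ := by group
        rw [e]
        exact Subgroup.inv_mem _ hy
    let φ : Subgroup.closure K →* Subgroup.closure K :=
      { toFun := fun y => ⟨q₀ * y.1 * q₀⁻¹, hinv y.1 y.2⟩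
        map_one' := by
          apply Subtype.ext
          simp
        map_mul' := fun y z => by
          apply Subtype.ext
          show q₀ * (y.1 * z.1) * q₀⁻¹ = (q₀ * y.1 * q₀⁻¹) * (q₀ * z.1 * q₀⁻¹)
          group }
    have hφτ : ∀ q : Q, φ (τ q) = τ (⟨q₀, hq₀⟩ * q) := by
      intro q
      apply Subtype.ext
      show q₀ * (τ q : Equiv.Perm α) * q₀⁻¹ = (τ (⟨q₀, hq₀⟩ * q) : Equiv.Perm α)
      rw [hτdef, hτdef]
      show q₀ * Equiv.swap ((q : Equiv.Perm α) w) (x ((q : Equiv.Perm α) w)) * q₀⁻¹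
        = Equiv.swap (q₀ ((q : Equiv.Perm α) w)) (x (q₀ ((q : Equiv.Perm α) w)))
      rw [← hxq q₀ hq₀, Equiv.swap_apply_apply]
    have hφ : φ (∏ q : Q, τ q) = ∏ q : Q, τ q := by
      rw [map_prod]
      simp_rw [hφτ]
      exact Fintype.prod_equiv (Equiv.mulLeft (⟨q₀, hq₀⟩ : Q)) _ _ (fun q => rfl)
    have h1 : q₀ * ((∏ q : Q, τ q : Subgroup.closure K) : Equiv.Perm α) * q₀⁻¹
        = ((∏ q : Q, τ q : Subgroup.closure K) : Equiv.Perm α) := congrArg Subtype.val hφ
    calc ((∏ q : Q, τ q : Subgroup.closure K) : Equiv.Perm α) * q₀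
        = (q₀ * ((∏ q : Q, τ q : Subgroup.closure K) : Equiv.Perm α) * q₀⁻¹) * q₀ := by rw [h1]
      _ = q₀ * ((∏ q : Q, τ q : Subgroup.closure K) : Equiv.Perm α) := by group
  · have hs : Equiv.Perm.sign ((∏ q : Q, τ q : Subgroup.closure K) : Equiv.Perm α)
        = ∏ q : Q, Equiv.Perm.sign (τ q : Equiv.Perm α) := by
      exact map_prod (Equiv.Perm.sign.comp (Subgroup.closure K).subtype) τ Finset.univ
    rw [hs]
    have h2 : ∀ q : Q, Equiv.Perm.sign (τ q : Equiv.Perm α) = -1 := by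
      intro q
      rw [hτdef]
      apply Equiv.Perm.sign_swap
      intro h
      apply hw
      rw [← hxq q.1 q.2 w] at h
      exact (q.1.injective h).symm
    simp_rw [h2]
    rw [Finset.prod_const, Finset.card_univ, ← Nat.card_eq_fintype_card]
    exact hQ.neg_one_pow

end Cfsg.Agent.Helper7
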