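import Mathlib
import Cfsg.Agent.Lead.NilNum

set_option autoImplicit false

namespace Cfsg.Agent.Helper7

theorem nilalt2_v2_succ (a : ℕ) (ha : Even a) :
    (a + 1).factorial.factorization 2 = a.factorial.factorization 2 := by
  rw [Nat.factorial_succ, Nat.factorization_mul (Nat.succ_ne_zero a) a.factorial_ne_zero]
  have h0 : (a + 1).factorization 2 = 0 := by
    apply Nat.factorization_eq_zero_of_not_dvd
    rcases ha with ⟨k, rfl⟩
    omega
  simp [h0]

theorem nilalt2_pair (c : ℕ → ℕ)
    (hc : ∀ m, 0 < m → m ≠ 3 → c m ≤ 2 ^ (m.factorial.factorization 2)) (hc3 : c 3 = 3)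
    (x y : ℕ) (hx : Odd x) (hy : Odd y) (hx3 : x ≠ 3) :
    2 * c x * c y ≤ 2 ^ ((x + y).factorial.factorization 2) := by
  obtain ⟨a, rfl⟩ := hx
  obtain ⟨b, rfl⟩ := hy
  have hcx := hc (2 * a + 1) (by omega) hx3
  have hvx := nilalt2_v2_succ (2 * a) ⟨a, by ring⟩
  rw [hvx] at hcx
  by_cases hy3 : 2 * b + 1 = 3
  · rw [hy3, hc3]
    have h4 := Lead.nn_v4 (2 * a)
    rw [show 2 * a + 1 + 3 = 2 * a + 4 by ring]
    calc 2 * c (2 * a + 1) * 3 ≤ 2 * 2 ^ ((2 * a).factorial.factorization 2) * 4 := by
          apply Nat.mul_le_mul (Nat.mul_le_mul_left _ hcx) (by norm_num)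
      _ = 2 ^ ((2 * a).factorial.factorization 2 + 3) := by ring
      _ ≤ _ := Nat.pow_le_pow_right (by norm_num) h4
  · have hcy := hc (2 * b + 1) (by omega) hy3
    have hvy := nilalt2_v2_succ (2 * b) ⟨b, by ring⟩
    rw [hvy] at hcy
    have h1 := Lead.nn_v_add (2 * a) (2 * b)
    have h2 := Lead.nn_v2 (2 * a + 2 * b)
    rw [show 2 * a + 1 + (2 * b + 1) = 2 * a + 2 * b + 2 by ring]
    calc 2 * c (2 * a + 1) * c (2 * b + 1)
        ≤ 2 * 2 ^ ((2 * a).factorial.factorization 2) *
            2 ^ ((2 * b).factorial.factorization 2) := by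
          apply Nat.mul_le_mul (Nat.mul_le_mul_left _ hcx) hcy
      _ = 2 ^ ((2 * a).factorial.factorization 2 + (2 * b).factorial.factorization 2 + 1) := by
          ring
      _ ≤ _ := Nat.pow_le_pow_right (by norm_num) (by omega)

theorem nil_prod_odd_le (c : ℕ → ℕ)
    (hc : ∀ m, 0 < m → m ≠ 3 → c m ≤ 2 ^ (m.factorial.factorization 2)) (hc3 : c 3 = 3)
    (hc2 : ∀ m, Odd m → m ≠ 1 → m ≠ 3 → m ≠ 5 → m ≠ 9 →
      2 * c m ≤ 2 ^ (m.factorial.factorization 2))
    (l : Multiset ℕ) (hodd : ∀ m ∈ l, Odd m) (h : l.sum % 4 ≠ 3) (h5 : l.sum ≠ 5)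
    (h6 : l.sum ≠ 6) (h9 : l.sum ≠ 9) (h2 : 2 ≤ l.sum) :
    2 * (l.map c).prod ≤ 2 ^ (l.sum.factorial.factorization 2) := by
  by_cases hall : ∀ m ∈ l, m = 3
  · have hl : l = Multiset.replicate (Multiset.card l) 3 :=
      Multiset.eq_replicate_card.mpr hall
    generalize Multiset.card l = b at hl
    subst hl
    rw [Multiset.sum_replicate, smul_eq_mul] at h h5 h6 h9 h2 ⊢
    rw [Multiset.map_replicate, Multiset.prod_replicate, hc3]
    obtain ⟨k, rfl⟩ : ∃ k, b = k + 3 := ⟨b - 3, by omega⟩
    let c' : ℕ → ℕ := fun m => if m = 9 then 54 else c m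
    have hc' : ∀ m, 0 < m → m ≠ 3 → c' m ≤ 2 ^ (m.factorial.factorization 2) := by
      intro m hm hm3
      by_cases h9' : m = 9
      · subst h9'
        have e1 : (Nat.factorial 1).factorization 2 + 3 ≤ (Nat.factorial 5).factorization 2 :=
          Lead.nn_v4 1
        have e2 : (Nat.factorial 5).factorization 2 + 3 ≤ (Nat.factorial 9).factorization 2 :=
          Lead.nn_v4 5
        have e3 : 6 ≤ (Nat.factorial 9).factorization 2 := by omega
        calc c' 9 = 54 := by simp [c']
          _ ≤ 2 ^ 6 := by norm_num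
          _ ≤ _ := Nat.pow_le_pow_right (by norm_num) e3
      · have : c' m = c m := by simp [c', h9']
        rw [this]; exact hc m hm hm3
    have hc3' : c' 3 = 3 := by simp [c', hc3]
    have key := Lead.nil_prod_le_of c' hc' hc3' (9 ::ₘ Multiset.replicate k 3)
      (by
        intro m hm
        rw [Multiset.mem_cons] at hm
        rcases hm with rfl | hm
        · norm_num
        · rw [Multiset.eq_of_mem_replicate hm]; norm_num)
      (by rw [Multiset.sum_cons, Multiset.sum_replicate, smul_eq_mul]; omega)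
    have e9 : c' 9 = 54 := by simp [c']
    rw [Multiset.map_cons, Multiset.prod_cons, Multiset.map_replicate, Multiset.prod_replicate,
      Multiset.sum_cons, Multiset.sum_replicate, smul_eq_mul, hc3', e9] at key
    rw [show (k + 3) * 3 = 9 + k * 3 by ring]
    calc 2 * 3 ^ (k + 3) = 54 * 3 ^ k := by ring
      _ ≤ _ := key
  · push Not at hall
    obtain ⟨x, hx, hx3⟩ := hall
    obtain ⟨r, rfl⟩ := Multiset.exists_cons_of_mem hx
    rcases Multiset.empty_or_exists_mem r with rfl | ⟨y, hy⟩
    · simp only [Multiset.cons_zero, Multiset.sum_singleton, Multiset.map_singleton,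
        Multiset.prod_singleton] at h h5 h9 h2 ⊢
      have hxo := hodd x (by simp)
      exact hc2 x hxo (by omega) hx3 h5 h9
    · obtain ⟨s, rfl⟩ := Multiset.exists_cons_of_mem hy
      have hxo : Odd x := hodd x (by simp)
      have hyo : Odd y := hodd y (by simp)
      have hso : ∀ m ∈ s, Odd m := fun m hm => hodd m (by simp [hm])
      let c' : ℕ → ℕ := fun m => if m = x + y then 2 * c x * c y else c m
      have hxy : Even (x + y) := hxo.add_odd hyo
      have hc' : ∀ m, 0 < m → m ≠ 3 → c' m ≤ 2 ^ (m.factorial.factorization 2) := by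
        intro m hm hm3
        by_cases hmx : m = x + y
        · subst hmx
          have : c' (x + y) = 2 * c x * c y := by simp [c']
          rw [this]
          exact nilalt2_pair c hc hc3 x y hxo hyo hx3
        · have : c' m = c m := by simp [c', hmx]
          rw [this]; exact hc m hm hm3
      have hc3' : c' 3 = 3 := by
        have : (3 : ℕ) ≠ x + y := by
          intro h3; rw [← h3] at hxy; exact absurd hxy (by decide)
        simp [c', this, hc3]
      have key := Lead.nil_prod_le_of c' hc' hc3' ((x + y) ::ₘ s)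
        (by
          intro m hm
          rw [Multiset.mem_cons] at hm
          rcases hm with rfl | hm
          · exact Nat.add_pos_left hxo.pos _
          · exact (hso m hm).pos)
        (by
          rw [Multiset.sum_cons]
          rw [Multiset.sum_cons, Multiset.sum_cons] at h
          omega)
      have hmap : s.map c' = s.map c := by
        apply Multiset.map_congr rfl
        intro m hm
        have : m ≠ x + y := by
          intro hm'; subst hm'
          exact (Nat.not_even_iff_odd.mpr (hso _ hm)) hxy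
        simp [c', this]
      have e : c' (x + y) = 2 * c x * c y := by simp [c']
      rw [Multiset.map_cons, Multiset.prod_cons, hmap, e, Multiset.sum_cons] at key
      rw [Multiset.map_cons, Multiset.map_cons, Multiset.prod_cons, Multiset.prod_cons,
        Multiset.sum_cons, Multiset.sum_cons]
      rw [show x + (y + s.sum) = x + y + s.sum by ring]
      calc 2 * (c x * (c y * (s.map c).prod)) = 2 * c x * c y * (s.map c).prod := by ring
        _ ≤ _ := key

end Cfsg.Agent.Helper7
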