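import Mathlib
import Cfsg.Agent.Lead.NilNum
import Cfsg.Agent.Helper7.NilAlt2

set_option autoImplicit false

namespace Cfsg.Agent.Helper7

theorem nilalt3_v2 (q : ℕ) :
    (4 * q + 3).factorial.factorization 2 = (4 * q).factorial.factorization 2 + 1 := by
  rw [Lead.nn_fact3,
    show (4 * q + 1) * (4 * q + 2) * (4 * q + 3) = 2 * ((4 * q + 1) * (2 * q + 1) * (4 * q + 3)) by
      ring,
    Nat.factorization_mul (by positivity) (Nat.factorial_ne_zero _),
    Nat.factorization_mul (by norm_num) (by positivity)]
  have h0 : ((4 * q + 1) * (2 * q + 1) * (4 * q + 3)).factorization 2 = 0 := by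
    apply Nat.factorization_eq_zero_of_not_dvd
    intro hd
    rcases (Nat.Prime.dvd_mul Nat.prime_two).mp hd with hd | hd
    · rcases (Nat.Prime.dvd_mul Nat.prime_two).mp hd with hd | hd <;> omega
    · omega
  simp only [Finsupp.add_apply, h0, Lead.nn_fz2]
  omega

theorem alt3_num (c : ℕ → ℕ)
    (hc : ∀ m, 0 < m → m ≠ 3 → c m ≤ 2 ^ (m.factorial.factorization 2)) (hc3 : c 3 = 3)
    (hc2 : ∀ m, Odd m → m ≠ 1 → m ≠ 3 → m ≠ 5 → m ≠ 9 →
      2 * c m ≤ 2 ^ (m.factorial.factorization 2))
    (l : Multiset ℕ) (hodd : ∀ m ∈ l, Odd m) (h : l.sum % 4 = 3) (h7 : 7 ≤ l.sum) :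
    2 * (l.map c).prod ≤ 3 * 2 ^ ((l.sum - 3).factorial.factorization 2) := by
  by_cases h3 : 3 ∈ l
  · obtain ⟨r, rfl⟩ := Multiset.exists_cons_of_mem h3
    rw [Multiset.sum_cons] at h h7 ⊢
    rw [Multiset.map_cons, Multiset.prod_cons, hc3]
    have key := nil_prod_odd_le c hc hc3 hc2 r
      (fun m hm => hodd m (Multiset.mem_cons_of_mem hm))
      (by omega) (by omega) (by omega) (by omega) (by omega)
    rw [show 3 + r.sum - 3 = r.sum by omega]
    calc 2 * (3 * (r.map c).prod) = 3 * (2 * (r.map c).prod) := by ring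
      _ ≤ _ := Nat.mul_le_mul_left _ key
  · have hmain : 2 * (l.map c).prod ≤ 2 ^ (l.sum.factorial.factorization 2) := by
      rcases Multiset.empty_or_exists_mem l with rfl | ⟨x, hx⟩
      · simp at h7
      · obtain ⟨r, rfl⟩ := Multiset.exists_cons_of_mem hx
        have hx3 : x ≠ 3 := by
          intro hx3
          apply h3
          rw [← hx3]
          exact Multiset.mem_cons_self x r
        rcases Multiset.empty_or_exists_mem r with rfl | ⟨y, hy⟩
        · simp only [Multiset.cons_zero, Multiset.sum_singleton, Multiset.map_singleton,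
            Multiset.prod_singleton] at h h7 ⊢
          exact hc2 x (hodd x (by simp)) (by omega) hx3 (by omega) (by omega)
        · obtain ⟨s, rfl⟩ := Multiset.exists_cons_of_mem hy
          have hxo : Odd x := hodd x (by simp)
          have hyo : Odd y := hodd y (by simp)
          have hpair := nilalt2_pair c hc hc3 x y hxo hyo hx3
          have hs := Lead.nn_main c hc hc3 s (fun m hm => (hodd m (by simp [hm])).pos)
          have hcount : s.count 3 = 0 :=
            Multiset.count_eq_zero.mpr (fun hm => h3 (by simp [hm]))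
          rw [hcount] at hs
          simp only [mul_zero, pow_zero, one_mul, Nat.sub_zero] at hs
          have hv := Lead.nn_v_add (x + y) s.sum
          rw [Multiset.map_cons, Multiset.map_cons, Multiset.prod_cons, Multiset.prod_cons,
            Multiset.sum_cons, Multiset.sum_cons]
          rw [show x + (y + s.sum) = x + y + s.sum by ring]
          calc 2 * (c x * (c y * (s.map c).prod)) = (2 * c x * c y) * (s.map c).prod := by ring
            _ ≤ 2 ^ ((x + y).factorial.factorization 2) *
                  2 ^ (s.sum.factorial.factorization 2) := Nat.mul_le_mul hpair hs.2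
            _ = 2 ^ ((x + y).factorial.factorization 2 + s.sum.factorial.factorization 2) := by
                ring
            _ ≤ _ := Nat.pow_le_pow_right (by norm_num) hv
    obtain ⟨q, hq⟩ : ∃ q, l.sum = 4 * q + 3 := ⟨l.sum / 4, by omega⟩
    rw [hq] at hmain ⊢
    rw [nilalt3_v2] at hmain
    rw [show 4 * q + 3 - 3 = 4 * q by omega]
    calc 2 * (l.map c).prod ≤ 2 ^ ((4 * q).factorial.factorization 2 + 1) := hmain
      _ = 2 * 2 ^ ((4 * q).factorial.factorization 2) := by ring
      _ ≤ _ := Nat.mul_le_mul_right _ (by norm_num)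

end Cfsg.Agent.Helper7
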