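import Mathlib

set_option autoImplicit false

namespace Cfsg.Agent.Helper7

theorem exists_nil_three_mul (n : ℕ) (hn : 3 ≤ n) (P : Sylow 2 (Equiv.Perm (Fin (n - 3)))) :
    ∃ M : Subgroup (Equiv.Perm (Fin n)), Group.IsNilpotent M ∧ Nat.card M = 3 * Nat.card P ∧
      Nonempty (M ≃* (↥(P : Subgroup (Equiv.Perm (Fin (n - 3)))) × Multiplicative (ZMod 3))) := by
  classical
  -- the regular action of C3
  let g₁ : Multiplicative (ZMod 3) →* Equiv.Perm (Multiplicative (ZMod 3)) :=
    MulAction.toPermHom (Multiplicative (ZMod 3)) (Multiplicative (ZMod 3))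
  have hg₁ : Function.Injective g₁ := MulAction.toPerm_injective
  let e : Fin (n - 3) ⊕ Multiplicative (ZMod 3) ≃ Fin n :=
    Fintype.equivFinOfCardEq (by
      rw [Fintype.card_sum, Fintype.card_fin]
      have : Fintype.card (Multiplicative (ZMod 3)) = 3 := by
        rw [Fintype.card_multiplicative, ZMod.card]
      omega)
  let f : Equiv.Perm (Fin (n - 3)) × Multiplicative (ZMod 3) →* Equiv.Perm (Fin n) :=
    (Equiv.permCongrHom e).toMonoidHom.comp
      ((Equiv.Perm.sumCongrHom (Fin (n - 3)) (Multiplicative (ZMod 3))).comp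
        (MonoidHom.prodMap (MonoidHom.id _) g₁))
  have hf : Function.Injective f := by
    have h1 : Function.Injective (MonoidHom.prodMap (MonoidHom.id (Equiv.Perm (Fin (n - 3)))) g₁) := by
      rintro ⟨a, b⟩ ⟨a', b'⟩ hab
      have h1 : a = a' := congrArg Prod.fst hab
      have h2 : g₁ b = g₁ b' := congrArg Prod.snd hab
      rw [h1, hg₁ h2]
    exact (Equiv.permCongrHom e).injective.comp (Equiv.Perm.sumCongrHom_injective.comp h1)
  let S : Subgroup (Equiv.Perm (Fin (n - 3)) × Multiplicative (ZMod 3)) :=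
    (P : Subgroup (Equiv.Perm (Fin (n - 3)))).prod ⊤
  let E : S.map f ≃* (↥(P : Subgroup (Equiv.Perm (Fin (n - 3)))) × Multiplicative (ZMod 3)) :=
    (S.equivMapOfInjective f hf).symm.trans
      (((P : Subgroup (Equiv.Perm (Fin (n - 3)))).prodEquiv ⊤).trans
        (MulEquiv.prodCongr (MulEquiv.refl _) Subgroup.topEquiv))
  refine ⟨S.map f, ?_, ?_, ⟨E⟩⟩
  · have : Group.IsNilpotent (↥(P : Subgroup (Equiv.Perm (Fin (n - 3))))) :=
      IsPGroup.isNilpotent P.isPGroup'
    exact (Group.isNilpotent_congr E).mpr inferInstance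
  · rw [Nat.card_congr E.toEquiv, Nat.card_prod]
    have : Nat.card (Multiplicative (ZMod 3)) = 3 := by
      rw [Nat.card_eq_fintype_card, Fintype.card_multiplicative, ZMod.card]
    rw [this, mul_comm]

end Cfsg.Agent.Helper7
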